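import Mathlib

/-!
Two involutions are conjugate inside the dihedral group they span, or commute with a third one of it,
whose products with them are conjugate to one of them inside that group.
-/

set_option autoImplicit false
set_option linter.style.haveILetI false

namespace Cfsg.Agent.Lib.Fi22Cent27

variable {G : Type*} [Group G] [Finite G]

/-- `q` commutes with whatever commutes with both `w` and `k` -/
def Between (w k q : G) : Prop := ∀ t, Commute t w → Commute t k → Commute t q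

/-- conjugate by an element between `w` and `k` -/
def Moves (w k x y : G) : Prop := ∃ h, Between w k h ∧ h * x * h⁻¹ = y

theorem commute_of_inv {c w : G} (hw : w * w = 1) (hc : c * c = 1) (h : w * c * w = c⁻¹) :
    Commute c w := by
  have hci : c⁻¹ = c := inv_eq_of_mul_eq_one_right hc
  rw [hci] at h
  calc c * w = w * c * w * w := by rw [h]
    _ = w * c := by rw [mul_assoc, hw, mul_one]

/-- the dihedral alternative -/
theorem dihedral {w k : G} (hw : w * w = 1) (hk : k * k = 1) :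
    Moves w k w k ∨
      ∃ c : G, Between w k c ∧ c * c = 1 ∧ c ≠ 1 ∧ Commute c w ∧ Commute c k ∧
        ((Moves w k w (c * w) ∧ Moves w k k (c * k)) ∨ (Moves w k k (c * w) ∧ Moves w k w (c * k))) := by
  set r := w * k with hr
  have hwi : w⁻¹ = w := inv_eq_of_mul_eq_one_right hw
  have hki : k⁻¹ = k := inv_eq_of_mul_eq_one_right hk
  have hri : r⁻¹ = k * w := by rw [hr, mul_inv_rev, hwi, hki]
  have hwr : ∀ n : ℕ, w * r ^ n * w = (r ^ n)⁻¹ := fun n => by
    have h1 : w * r * w⁻¹ = r⁻¹ := by rw [hri, hr, hwi, ← mul_assoc w w, hw, one_mul]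
    rw [← inv_pow, ← h1, conj_pow, hwi]
  have hkr : ∀ n : ℕ, k * r ^ n * k = (r ^ n)⁻¹ := fun n => by
    have h1 : k * r * k⁻¹ = r⁻¹ := by
      rw [hri, hr, hki]
      calc k * (w * k) * k = k * w * (k * k) := by group
        _ = k * w := by rw [hk, mul_one]
    rw [← inv_pow, ← h1, conj_pow, hki]
  have hcomm : ∀ n : ℕ, Between w k (r ^ n) := fun n t h1 h2 => (h1.mul_right h2).pow_right n
  have hwconj : ∀ a : ℕ, r ^ a * w * (r ^ a)⁻¹ = r ^ (2 * a) * w := fun a => by
    rw [← hwr a, two_mul, pow_add]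
    calc r ^ a * w * (w * r ^ a * w) = r ^ a * (w * w) * r ^ a * w := by group
      _ = r ^ a * r ^ a * w := by rw [hw, mul_one]
  have hkconj : ∀ a : ℕ, r ^ a * k * (r ^ a)⁻¹ = r ^ (2 * a) * k := fun a => by
    rw [← hkr a, two_mul, pow_add]
    calc r ^ a * k * (k * r ^ a * k) = r ^ a * (k * k) * r ^ a * k := by group
      _ = r ^ a * r ^ a * k := by rw [hk, mul_one]
  have hn : 0 < orderOf r := orderOf_pos r
  have hrn : r ^ orderOf r = 1 := pow_orderOf_eq_one r
  have hrk : r * k = w := by rw [hr, mul_assoc, hk, mul_one]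
  rcases Nat.even_or_odd (orderOf r) with ⟨m, hm⟩ | ⟨m, hm⟩
  · right
    have hc2 : r ^ m * r ^ m = 1 := by rw [← pow_add, ← hm, hrn]
    refine ⟨r ^ m, hcomm m, hc2, pow_ne_one_of_lt_orderOf (by omega) (by omega),
      commute_of_inv hw hc2 (hwr m), commute_of_inv hk hc2 (hkr m), ?_⟩
    rcases Nat.even_or_odd m with ⟨s, rfl⟩ | ⟨s, rfl⟩
    · left
      rw [← two_mul]
      exact ⟨⟨_, hcomm s, hwconj s⟩, ⟨_, hcomm s, hkconj s⟩⟩
    · right
      refine ⟨⟨_, hcomm (s + 1), ?_⟩, ⟨_, hcomm s, ?_⟩⟩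
      · rw [hkconj, show 2 * (s + 1) = 2 * s + 1 + 1 by ring, pow_succ, mul_assoc, hrk]
      · rw [hwconj, pow_succ (n := 2 * s), mul_assoc, hrk]
  · left
    refine ⟨r ^ m, hcomm m, ?_⟩
    rw [hwconj]
    have h1 : r ^ (2 * m) = r⁻¹ := eq_inv_of_mul_eq_one_left (by rw [← pow_succ, ← hm, hrn])
    rw [h1, hri, mul_assoc, hw, mul_one]

end Cfsg.Agent.Lib.Fi22Cent27
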