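import Mathlib
import Cfsg.Agent.Lib.Fi22Cent27.Dihedral

/-!
What the centraliser of a member gives about a conjugacy class of involutions: products of cliques,
recognition of pairs inside a neighbourhood, six members with product a given member, the two
decompositions of a triple.
-/

set_option autoImplicit false
set_option linter.style.haveILetI false
set_option linter.unusedSectionVars false

namespace Cfsg.Agent.Lib.Fi22Cent27

variable {G : Type*} [Group G]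

/-- the neighbours of `z` -/
def nb (D : Set G) (z : G) : Set G := {x | x ∈ D ∧ x ≠ z ∧ Commute z x}

/-- pairwise commuting, pairwise different -/
structure Tri (a b c : G) : Prop where
  nab : a ≠ b
  nac : a ≠ c
  nbc : b ≠ c
  cab : Commute a b
  cac : Commute a c
  cbc : Commute b c

/-- the setting -/
structure Loc (D : Set G) : Prop where
  conjD : ∀ g : G, ∀ x ∈ D, g * x * g⁻¹ ∈ D
  sq : ∀ x ∈ D, x * x = 1
  one_notMem : (1 : G) ∉ D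
  two : ∀ x ∈ D, ∀ y ∈ D, x ≠ y → Commute x y → x * y ∉ D
  three : ∀ x ∈ D, ∀ y ∈ D, ∀ z ∈ D, Tri x y z → x * (y * z) ∉ D
  pair : ∀ z ∈ D, ∀ x ∈ nb D z, ∀ y ∈ nb D z, ∀ u ∈ nb D z, ∀ w ∈ nb D z, x ≠ y → Commute x y →
    u ≠ w → Commute u w →
      (x * y = u * w → (u = x ∧ w = y) ∨ (u = y ∧ w = x)) ∧ x * y ≠ z * (u * w)
  classify : ∀ z ∈ D, ∀ t : G, t * t = 1 → t ≠ 1 → Commute t z → t ∈ D ∨
    (∃ x ∈ D, ∃ y ∈ D, x ≠ y ∧ Commute x y ∧ Commute x z ∧ Commute y z ∧ t = x * y) ∨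
    ∃ x ∈ D, ∃ y ∈ D, ∃ w ∈ D, Tri x y w ∧ Commute x z ∧ Commute y z ∧ Commute w z ∧ t = x * (y * w)
  third : ∀ z ∈ D, ∀ a ∈ nb D z, ∃ y ∈ nb D z, y ≠ a ∧ Commute a y
  six : ∀ z ∈ D, ∀ a ∈ nb D z, ∀ b ∈ nb D z, Commute a b → ∃ l : List G, Even l.length ∧
    (∀ x ∈ l, x ∈ nb D z ∧ Commute a x ∧ Commute b x) ∧ l.prod = z
  second : ∀ z ∈ D, ∀ a ∈ nb D z, ∀ b ∈ nb D z, a ≠ b → Commute a b → ∃ u v w : G,
    u ∈ nb D z ∧ v ∈ nb D z ∧ w ∈ nb D z ∧ Tri u v w ∧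
    (Commute a u ∧ Commute a v ∧ Commute a w) ∧ (Commute b u ∧ Commute b v ∧ Commute b w) ∧
    u ≠ a ∧ u ≠ b ∧ z * (a * b) = u * (v * w) ∧
    ∀ x ∈ nb D z, ∀ x₂ ∈ nb D z, ∀ x₃ ∈ nb D z, Tri x x₂ x₃ →
      (Commute a x ∧ Commute a x₂ ∧ Commute a x₃) → (Commute b x ∧ Commute b x₂ ∧ Commute b x₃) →
      z * (a * b) = x * (x₂ * x₃) → x = u ∨ x = v ∨ x = w

end Cfsg.Agent.Lib.Fi22Cent27
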