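import Mathlib
import Cfsg.Agent.Lib.Fi22Cent27.Setting

/-!
A product of two commuting members determines them; whatever member commutes with it commutes with both.
-/

set_option autoImplicit false
set_option linter.style.haveILetI false
set_option linter.unusedSectionVars false

namespace Cfsg.Agent.Lib.Fi22Cent27

variable {G : Type*} [Group G] [Finite G] {D : Set G}

theorem Loc.ne_one (h : Loc D) {x : G} (hx : x ∈ D) : x ≠ 1 := fun e => h.one_notMem (e ▸ hx)

theorem Loc.mul_cancel (h : Loc D) {x : G} (hx : x ∈ D) (y : G) : x * (x * y) = y := by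
  rw [← mul_assoc, h.sq x hx, one_mul]

theorem Loc.eq_one_of_mul (h : Loc D) {x y : G} (hx : x ∈ D) (e : x * y = 1) : y = x := by
  rw [← h.mul_cancel hx y, e, mul_one]

/-- a member commuting with a commuting pair which multiplies it into `D` is one of them -/
theorem Loc.mem_pair (h : Loc D) {v z w : G} (hv : v ∈ D) (hz : z ∈ D) (hw : w ∈ D) (hzw : z ≠ w)
    (c : Commute z w) (c1 : Commute v z) (c2 : Commute v w) (hp : v * (z * w) ∈ D) : v = z ∨ v = w := by
  by_contra hne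
  push Not at hne
  exact h.three v hv z hz w hw ⟨hne.1, hne.2, hzw, c1, c2, c⟩ hp

theorem conj_mul' (g x y : G) : g * (x * y) * g⁻¹ = g * x * g⁻¹ * (g * y * g⁻¹) := by group

theorem conj_fix {g x : G} (hc : Commute x g) : g * x * g⁻¹ = x := by
  rw [← hc.eq, mul_inv_cancel_right]

theorem commute_conj {g x y : G} (hc : Commute x y) : Commute (g * x * g⁻¹) (g * y * g⁻¹) := by
  show g * x * g⁻¹ * (g * y * g⁻¹) = g * y * g⁻¹ * (g * x * g⁻¹)
  rw [← conj_mul', ← conj_mul', hc.eq]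

theorem conj_ne {g x y : G} (hne : x ≠ y) : g * x * g⁻¹ ≠ g * y * g⁻¹ :=
  fun e => hne (mul_left_cancel (mul_right_cancel e))

/-- the step: `y` between the pair and `z` -/
theorem Loc.step (h : Loc D) {d a z w y : G} (hd : d ∈ D) (ha : a ∈ D) (hne : d ≠ a) (hda : Commute d a)
    (hz : z ∈ D) (hw : w ∈ D) (hzw : z ≠ w) (hc : Commute z w) (hj : d * a = z * w) (hy : y ∈ D)
    (hyd : y ≠ d) (hya : y ≠ a) (cyd : Commute y d) (cya : Commute y a) :
    ∃ v, (v = d ∨ v = a) ∧ Commute (v * y) z ∧ (∃ x ∈ D, v * y * z = x) ∧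
      ∀ f : G, Commute f (d * a) → Commute f y → Commute f z → z * f ∈ D → v * f ∈ D := by
  have hyj : Commute y (d * a) := cyd.mul_right cya
  have hzj : Commute z (d * a) := hj ▸ (Commute.refl z).mul_right hc
  have hwj : Commute w (d * a) := hj ▸ hc.symm.mul_right (Commute.refl w)
  have hjz : z * (d * a) = w := by rw [hj, h.mul_cancel hz]
  have hyjD : y * (d * a) ∉ D := h.three y hy d hd a ha ⟨hyd, hya, hne, cyd, cya, hda⟩
  rcases dihedral (h.sq y hy) (h.sq z hz) with ⟨q, hq, hqy⟩ | ⟨c, hc', hc2, hc1, hcy, hcz, hcases⟩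
  · exfalso
    have hqj : q * (d * a) * q⁻¹ = d * a := conj_fix (hq _ hyj.symm hzj.symm)
    have : q * (y * (d * a)) * q⁻¹ = w := by rw [conj_mul', hqy, hqj, hjz]
    have h2 := h.conjD q⁻¹ _ hw
    rw [← this] at h2
    simp only [mul_assoc, inv_mul_cancel_left, inv_inv, inv_mul_cancel, mul_one] at h2
    exact hyjD h2
  have hcj : Commute c (d * a) := (hc' _ hyj.symm hzj.symm).symm
  rcases hcases with ⟨⟨g₁, hg₁, e₁⟩, ⟨g₂, hg₂, e₂⟩⟩ | ⟨⟨g₁, hg₁, e₁⟩, ⟨g₂, hg₂, e₂⟩⟩
  · -- `c * z` would be `w`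
    exfalso
    have hw' : c * z ∈ D := e₂ ▸ h.conjD g₂ z hz
    have hw'z : Commute (c * z) z := hcz.mul_left (Commute.refl z)
    have hw'w : Commute (c * z) w := by
      have : w = z * (d * a) := hjz.symm
      rw [this]
      exact (hcz.mul_left (Commute.refl z)).mul_right (hcj.mul_left hzj)
    have hmem : c * z * (z * w) ∈ D := by
      rw [← hj, ← e₂]
      have hg : g₂ * (d * a) * g₂⁻¹ = d * a := conj_fix (hg₂ _ hyj.symm hzj.symm)
      rw [show g₂ * z * g₂⁻¹ * (d * a) = g₂ * (z * (d * a)) * g₂⁻¹ by rw [conj_mul', hg], hjz]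
      exact h.conjD g₂ w hw
    rcases h.mem_pair hw' hz hw hzw hc hw'z hw'w hmem with e | e
    · exact hc1 (mul_eq_right.mp e)
    · have hcj' : c = d * a := by
        rw [hj, ← e, hcz.eq, ← mul_assoc, h.sq z hz, one_mul]
      exact hyjD (by rw [hyj.eq, ← hcj', ← e₁]; exact h.conjD g₁ y hy)
  set v := c * y with hv
  have hvD : v ∈ D := e₁ ▸ h.conjD g₁ z hz
  have hvy : Commute v y := hcy.mul_left (Commute.refl y)
  have hvne : v ≠ y := fun e => hc1 (mul_eq_right.mp e)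
  have hg₁j : g₁ * (d * a) * g₁⁻¹ = d * a := conj_fix (hg₁ _ hyj.symm hzj.symm)
  have hvjD : v * (d * a) ∈ D := by
    rw [← e₁, show g₁ * z * g₁⁻¹ * (d * a) = g₁ * (z * (d * a)) * g₁⁻¹ by rw [conj_mul', hg₁j], hjz]
    exact h.conjD g₁ w hw
  have hvj : Commute v (d * a) := hcj.mul_left hyj
  have hd' : d ∈ nb D y := ⟨hd, Ne.symm hyd, cyd⟩
  have ha' : a ∈ nb D y := ⟨ha, Ne.symm hya, cya⟩
  have hvn : v ∈ nb D y := ⟨hvD, hvne, hvy.symm⟩
  have hvjn : v * (d * a) ∈ nb D y := by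
    refine ⟨hvjD, fun e => hyjD ?_, hvy.symm.mul_right hyj⟩
    have hv' : v = y * (d * a) := by
      calc v = v * (d * a) * (d * a) := by
            rw [mul_assoc v, hda.symm.mul_mul_mul_comm, h.sq d hd, h.sq a ha, one_mul, mul_one]
        _ = _ := by rw [e]
    exact hv' ▸ hvD
  have hvvj : v ≠ v * (d * a) := fun e => hne
    (h.eq_one_of_mul hd (left_eq_mul.mp e)).symm
  obtain ⟨hp, -⟩ := h.pair y hy d hd' a ha' v hvn _ hvjn hne hda hvvj ((Commute.refl v).mul_right hvj)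
  have hor : v = d ∨ v = a := by
    rcases hp (by rw [h.mul_cancel hvD]) with ⟨e, -⟩ | ⟨e, -⟩
    exacts [Or.inl e, Or.inr e]
  have hvc : v * y = c := by rw [hv, mul_assoc, h.sq y hy, mul_one]
  refine ⟨v, hor, hvc ▸ hcz, ⟨c * z, e₂ ▸ h.conjD g₂ y hy, by rw [hvc]⟩, fun f hfj hfy hfz hzf => ?_⟩
  rw [← e₁]
  have hgf : g₁ * f * g₁⁻¹ = f := conj_fix (hg₁ _ hfy hfz)
  rw [show g₁ * z * g₁⁻¹ * f = g₁ * (z * f) * g₁⁻¹ by rw [conj_mul', hgf]]
  exact h.conjD g₁ _ hzf

theorem prod_shift' {d : G} : ∀ {l : List G}, (∀ x ∈ l, Commute d x) →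
    (l.map fun x => d * x).prod = d ^ l.length * l.prod
  | [], _ => by simp
  | a :: l, hl => by
    rw [List.map_cons, List.prod_cons, prod_shift' (fun x hx => hl x (List.mem_cons_of_mem _ hx)), List.prod_cons,
      List.length_cons, pow_succ']
    calc d * a * (d ^ l.length * l.prod) = d * (a * d ^ l.length) * l.prod := by group
      _ = d * (d ^ l.length * a) * l.prod := by rw [((hl a (by simp)).pow_left _).symm.eq]
      _ = _ := by group

theorem Loc.uniq_aux (h : Loc D) {d a z w y₀ : G} (hd : d ∈ D) (ha : a ∈ D) (hne : d ≠ a) (hda : Commute d a)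
    (hz : z ∈ D) (hw : w ∈ D) (hzw : z ≠ w) (hc : Commute z w) (hj : d * a = z * w) (hy : y₀ ∈ D)
    (hyd : y₀ ≠ d) (hya : y₀ ≠ a) (cyd : Commute y₀ d) (cya : Commute y₀ a)
    (h0 : Commute (d * y₀) z) (h0D : ∃ x ∈ D, d * y₀ * z = x) : Commute z d := by
  obtain ⟨l, hl, hmem, hprod⟩ := h.six d hd a ⟨ha, hne.symm, hda⟩ y₀ ⟨hy, hyd, cyd.symm⟩ cya.symm
  have key : ∀ x ∈ l, Commute z (d * x) := by
    intro x hx
    obtain ⟨⟨hxD, hxd, cdx⟩, cax, cyx⟩ := hmem x hx
    by_cases hxa : x = a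
    · rw [hxa, hj]; exact (Commute.refl z).mul_right hc
    by_cases hxy : x = y₀
    · rw [hxy]; exact h0.symm
    obtain ⟨v, hv, hvx, -, hf⟩ := h.step hd ha hne hda hz hw hzw hc hj hxD hxd hxa cdx.symm cax.symm
    obtain ⟨x', hx'D, hx'⟩ := h0D
    have hvD := hf (d * y₀) ((((Commute.refl d).mul_left cyd)).mul_right (hda.mul_left cya))
      (cdx.mul_left cyx) h0 (by rw [← h0.eq, hx']; exact hx'D)
    rcases hv with rfl | rfl
    · exact hvx.symm
    · exfalso
      exact h.three v ha d hd y₀ hy ⟨hne.symm, Ne.symm hya, Ne.symm hyd, hda.symm, cya.symm, cyd.symm⟩ hvD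
  have hcom : Commute z (l.map fun x => d * x).prod :=
    Commute.list_prod_right _ _ fun u hu => by
      obtain ⟨x, hx, rfl⟩ := List.mem_map.mp hu
      exact key x hx
  rw [prod_shift' (fun x hx => (hmem x hx).1.2.2), hprod] at hcom
  obtain ⟨m, hm⟩ := hl
  rwa [hm, pow_add, ← (Commute.refl d).mul_pow, h.sq d hd, one_pow, one_mul] at hcom

/-- a product of two commuting members determines them -/
theorem Loc.uniq (h : Loc D) {d a z w : G} (hd : d ∈ D) (ha : a ∈ D) (hne : d ≠ a) (hda : Commute d a)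
    (hz : z ∈ D) (hw : w ∈ D) (hzw : z ≠ w) (hc : Commute z w) (hj : d * a = z * w) :
    (z = d ∧ w = a) ∨ (z = a ∧ w = d) := by
  obtain ⟨y₀, ⟨hy, hyd, cdy⟩, hya, cay⟩ := h.third d hd a ⟨ha, hne.symm, hda⟩
  obtain ⟨v, hv, hvz, hvD, -⟩ := h.step hd ha hne hda hz hw hzw hc hj hy hyd hya cdy.symm cay.symm
  have hzj : Commute z (d * a) := hj ▸ (Commute.refl z).mul_right hc
  have hzd : Commute z d := by
    rcases hv with rfl | rfl
    · exact h.uniq_aux hd ha hne hda hz hw hzw hc hj hy hyd hya cdy.symm cay.symm hvz hvD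
    · have := h.uniq_aux ha hd hne.symm hda.symm hz hw hzw hc (hda.eq.symm.trans hj) hy hya hyd cay.symm cdy.symm
        hvz hvD
      have h2 : d = d * v * v := by rw [mul_assoc, h.sq v ha, mul_one]
      rw [h2]
      exact hzj.mul_right this
  have hwd : Commute w d := by
    have : w = z * (d * a) := by rw [hj, h.mul_cancel hz]
    rw [this]
    exact hzd.mul_left ((Commute.refl d).mul_left hda.symm)
  have hmem : d * (z * w) ∈ D := by rw [← hj, h.mul_cancel hd]; exact ha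
  rcases h.mem_pair hd hz hw hzw hc hzd.symm hwd.symm hmem with e | e
  · subst e
    exact Or.inl ⟨rfl, (mul_left_cancel hj).symm⟩
  · subst e
    exact Or.inr ⟨(mul_right_cancel (hda.eq.symm.trans hj)).symm, rfl⟩

/-- a member commuting with a pair product permutes the pair -/
theorem Loc.perm_pair (h : Loc D) {d a g : G} (hd : d ∈ D) (ha : a ∈ D) (hne : d ≠ a) (hda : Commute d a)
    (hg : Commute g (d * a)) :
    (g * d * g⁻¹ = d ∧ g * a * g⁻¹ = a) ∨ (g * d * g⁻¹ = a ∧ g * a * g⁻¹ = d) := by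
  refine h.uniq hd ha hne hda (h.conjD g d hd) (h.conjD g a ha) (conj_ne hne) (commute_conj hda) ?_
  rw [← conj_mul', conj_fix hg.symm]

/-- a product of two commuting members is not one of three -/
theorem Loc.pair_ne_three (h : Loc D) {p p' d a b : G} (hp : p ∈ D) (hp' : p' ∈ D) (hne : p ≠ p')
    (hc : Commute p p') (hd : d ∈ D) (ha : a ∈ D) (hb : b ∈ D) (ht : Tri d a b) : p * p' ≠ d * (a * b) := by
  intro e
  have swap : ∀ {x y u : G}, x ∈ D → y ∈ D → u ∈ D → Tri x y u → p * p' = x * (y * u) →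
      x * p * x⁻¹ = p' := by
    intro x y u hx hy hu ht e
    have hxc : Commute x (p * p') := by
      rw [e]; exact (Commute.refl x).mul_right (ht.cab.mul_right ht.cac)
    rcases h.perm_pair hp hp' hne hc hxc with ⟨e1, e2⟩ | ⟨e1, -⟩
    · exfalso
      have cxp : Commute x p := mul_inv_eq_iff_eq_mul.mp e1
      have cxp' : Commute x p' := mul_inv_eq_iff_eq_mul.mp e2
      have npx : p ≠ x := fun h' => h.two y hy u hu ht.nbc ht.cbc (by
        rw [h'] at e; rw [← mul_left_cancel e]; exact hp')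
      have np'x : p' ≠ x := fun h' => h.two y hy u hu ht.nbc ht.cbc (by
        rw [hc.eq, h'] at e; rw [← mul_left_cancel e]; exact hp)
      exact (h.pair x hx p ⟨hp, npx, cxp⟩ p' ⟨hp', np'x, cxp'⟩ y ⟨hy, ht.nab.symm, ht.cab⟩ u
        ⟨hu, ht.nac.symm, ht.cac⟩ hne hc ht.nbc ht.cbc).2 e
    · exact e1
  have h1 := swap hd ha hb ht e
  have h2 := swap ha hd hb ⟨ht.nab.symm, ht.nbc, ht.nac, ht.cab.symm, ht.cbc, ht.cac⟩
    (by rw [e, ← mul_assoc, ht.cab.eq, mul_assoc])
  have hcp : Commute p (d * a) := by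
    have : a * p * a⁻¹ = d * p * d⁻¹ := h2.trans h1.symm
    rw [inv_eq_of_mul_eq_one_right (h.sq a ha), inv_eq_of_mul_eq_one_right (h.sq d hd)] at this
    refine Commute.symm ?_
    calc d * a * p = d * (a * p * a) * a := by
          simp only [mul_assoc, h.sq a ha, mul_one]
      _ = d * (d * p * d) * a := by rw [this]
      _ = p * (d * a) := by simp only [mul_assoc, h.mul_cancel hd]
  rcases h.perm_pair hd ha ht.nab ht.cab hcp with ⟨e1, -⟩ | ⟨e1, -⟩
  · have cpd : Commute p d := mul_inv_eq_iff_eq_mul.mp e1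
    exact hne (h1 ▸ (conj_fix cpd)).symm
  · rw [inv_eq_of_mul_eq_one_right (h.sq p hp)] at e1
    rw [inv_eq_of_mul_eq_one_right (h.sq d hd)] at h1
    have h3 : p' * p = d * a := by rw [← h1, ← e1]; simp only [mul_assoc]
    rw [← hc.eq, e] at h3
    exact h.ne_one hb (mul_eq_left.mp (mul_left_cancel h3))

/-- a member commuting with a pair product commutes with both -/
theorem Loc.comm_pair (h : Loc D) {d a z : G} (hd : d ∈ D) (ha : a ∈ D) (hne : d ≠ a) (hda : Commute d a)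
    (hz : z ∈ D) (hc : Commute z (d * a)) : Commute z d ∧ Commute z a := by
  have hj2 : d * a * (d * a) = 1 := by rw [hda.symm.mul_mul_mul_comm, h.sq d hd, h.sq a ha, one_mul]
  have hj1 : d * a ≠ 1 := fun e => hne (h.eq_one_of_mul hd e).symm
  rcases h.classify z hz (d * a) hj2 hj1 hc.symm with h1 | ⟨x, hx, y, hy, n, c, cxz, cyz, e⟩ |
      ⟨x, hx, y, hy, u, hu, ht, -, -, -, e⟩
  · exact absurd h1 (h.two d hd a ha hne hda)
  · rcases h.uniq hd ha hne hda hx hy n c e with ⟨rfl, rfl⟩ | ⟨rfl, rfl⟩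
    · exact ⟨cxz.symm, cyz.symm⟩
    · exact ⟨cyz.symm, cxz.symm⟩
  · exact absurd e (h.pair_ne_three hd ha hne hda hx hy hu ht)

end Cfsg.Agent.Lib.Fi22Cent27
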