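import Mathlib
import Cfsg.Agent.Lib.Fi22Cent27.Pairs

/-!
If every involution stabilising a component of the commuting graph commutes with one of its members,
then the commuting graph is connected.
-/

set_option autoImplicit false
set_option linter.style.haveILetI false
set_option linter.unusedSectionVars false

namespace Cfsg.Agent.Lib.Fi22Cent27

variable {G : Type*} [Group G] [Finite G] {D : Set G}

/-- an edge -/
def Adj (D : Set G) (x y : G) : Prop := x ∈ D ∧ y ∈ D ∧ Commute x y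

/-- the same component -/
def Rel (D : Set G) : G → G → Prop := Relation.ReflTransGen (Adj D)

theorem Rel.one {x y : G} (hx : x ∈ D) (hy : y ∈ D) (hc : Commute x y) : Rel D x y :=
  Relation.ReflTransGen.single ⟨hx, hy, hc⟩

theorem Rel.symm {x y : G} (h : Rel D x y) : Rel D y x := by
  induction h with
  | refl => exact Relation.ReflTransGen.refl
  | tail _ h2 ih => exact Relation.ReflTransGen.head ⟨h2.2.1, h2.1, h2.2.2.symm⟩ ih

theorem Rel.trans' {x y z : G} (h1 : Rel D x y) (h2 : Rel D y z) : Rel D x z :=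
  Relation.ReflTransGen.trans h1 h2

theorem Rel.mem {x y : G} (hx : x ∈ D) (h : Rel D x y) : y ∈ D := by
  induction h with
  | refl => exact hx
  | tail _ h2 _ => exact h2.2.1

theorem Rel.conj (h : Loc D) (g : G) {x y : G} (hr : Rel D x y) :
    Rel D (g * x * g⁻¹) (g * y * g⁻¹) := by
  induction hr with
  | refl => exact Relation.ReflTransGen.refl
  | tail _ h2 ih => exact ih.tail ⟨h.conjD g _ h2.1, h.conjD g _ h2.2.1, commute_conj h2.2.2⟩

/-- `g` stabilises the component of `x` -/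
def St (D : Set G) (x g : G) : Prop := Rel D x (g * x * g⁻¹)

theorem St.of_comm {x g : G} (hc : Commute x g) : St D x g := by
  unfold St; rw [conj_fix hc]; exact Relation.ReflTransGen.refl

theorem St.move (h : Loc D) {x y g : G} (hs : St D x g) (hxy : Rel D x y) : St D y g :=
  (hxy.symm.trans' hs).trans' (hxy.conj h g)

theorem St.mul (h : Loc D) {x g₁ g₂ : G} (h1 : St D x g₁) (h2 : St D x g₂) : St D x (g₁ * g₂) := by
  have := h1.trans' (Rel.conj h g₁ h2)
  unfold St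
  rwa [show g₁ * g₂ * x * (g₁ * g₂)⁻¹ = g₁ * (g₂ * x * g₂⁻¹) * g₁⁻¹ by group]

/-- the hypothesis from the recognition of a component -/
def Invols (D : Set G) : Prop :=
  ∀ x ∈ D, ∀ t : G, t * t = 1 → t ≠ 1 → St D x t → ∃ y, Rel D x y ∧ Commute y t

variable (h : Loc D) (hI : Invols D)

include h in
/-- what commutes with a pair product stabilises the component -/
theorem st_of_comm_pair {u v g : G} (hu : u ∈ D) (hv : v ∈ D) (hne : u ≠ v) (hc : Commute u v)
    (hg : Commute g (u * v)) : St D u g := by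
  have : Commute (g * u * g⁻¹) (u * v) := by
    have h2 := commute_conj (g := g) ((Commute.refl u).mul_right hc : Commute u (u * v))
    rwa [conj_fix hg.symm] at h2
  exact Rel.one hu (h.conjD g u hu) (h.comm_pair hu hv hne hc (h.conjD g u hu) this).1.symm

include h hI in
/-- a pair of one component does not stabilise another -/
theorem rel_of_pair_st {u v x : G} (hu : u ∈ D) (hv : v ∈ D) (hne : u ≠ v) (hc : Commute u v)
    (hx : x ∈ D) (hs : St D x (u * v)) : Rel D x u := by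
  obtain ⟨y, hxy, hy⟩ := hI x hx (u * v) (by rw [hc.symm.mul_mul_mul_comm, h.sq u hu, h.sq v hv, one_mul])
    (fun e => hne (h.eq_one_of_mul hu e).symm) hs
  exact hxy.trans' (Rel.one (hxy.mem hx) hu (h.comm_pair hu hv hne hc (hxy.mem hx) hy).1)

include h hI in
/-- a member stabilising a component lies in it -/
theorem rel_of_mem_st {k x : G} (hk : k ∈ D) (hx : x ∈ D) (hs : St D x k) : Rel D x k := by
  obtain ⟨y, hxy, hy⟩ := hI x hx k (h.sq k hk) (h.ne_one hk) hs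
  exact hxy.trans' (Rel.one (hxy.mem hx) hk hy)

include h in
/-- members which multiply a triple into a pair lie among its two decompositions -/
theorem mate {d a y x p q U V W : G} (hd : d ∈ D) (ha : a ∈ D) (hy : y ∈ D) (hT : Tri d a y)
    (hx : x ∈ D) (cxd : Commute x d) (cxa : Commute x a) (cxy : Commute x y)
    (hp : p ∈ D) (hq : q ∈ D) (hpq : p ≠ q) (cpq : Commute p q) (e : d * (a * y) * x = p * q)
    (huniq : ∀ x ∈ nb D d, ∀ x₂ ∈ nb D d, ∀ x₃ ∈ nb D d, Tri x x₂ x₃ →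
      (Commute a x ∧ Commute a x₂ ∧ Commute a x₃) → (Commute y x ∧ Commute y x₂ ∧ Commute y x₃) →
      d * (a * y) = x * (x₂ * x₃) → x = U ∨ x = V ∨ x = W) :
    (x = d ∨ x = a ∨ x = y) ∨ x = U ∨ x = V ∨ x = W := by
  by_cases h1 : x = d ∨ x = a ∨ x = y
  · exact Or.inl h1
  refine Or.inr ?_
  push Not at h1
  obtain ⟨hxd, hxa, hxy⟩ := h1
  have hcomm : ∀ u, Commute u d → Commute u a → Commute u y → Commute u x → u ∈ D →
      Commute u p ∧ Commute u q := fun u c1 c2 c3 c4 hu =>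
    h.comm_pair hp hq hpq cpq hu (by rw [← e]; exact (c1.mul_right (c2.mul_right c3)).mul_right c4)
  obtain ⟨cdp, cdq⟩ := hcomm d (Commute.refl d) hT.cab hT.cac cxd.symm hd
  obtain ⟨cap, caq⟩ := hcomm a hT.cab.symm (Commute.refl a) hT.cbc cxa.symm ha
  obtain ⟨cyp, cyq⟩ := hcomm y hT.cac.symm hT.cbc.symm (Commute.refl y) cxy.symm hy
  obtain ⟨cxp, cxq⟩ := hcomm x cxd cxa cxy (Commute.refl x) hx
  have hT3 : d * (a * y) ∉ D := h.three d hd a ha y hy hT
  have ht : d * (a * y) = x * (p * q) := by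
    have hxc : Commute x (d * (a * y)) := cxd.mul_right (cxa.mul_right cxy)
    rw [← e, ← mul_assoc x, hxc.eq, mul_assoc, h.sq x hx, mul_one]
  have hxp : x ≠ p := fun h' => hT3 (by rw [ht, h', h.mul_cancel hp]; exact hq)
  have hxq : x ≠ q := fun h' => hT3 (by rw [ht, h', cpq.eq, h.mul_cancel hq]; exact hp)
  have notd : ∀ r s : G, r ∈ D → s ∈ D → Commute d r → Commute d s → Commute r s → x ≠ s → r ≠ s →
      Commute x s → d * (a * y) = x * (r * s) → r ≠ d := by
    intro r s _ hs cdr cds crs hxs hrs cxs ht' hrd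
    subst hrd
    have h2 : a * y = x * s := by
      refine mul_left_cancel (a := r) ?_
      rw [ht', ← mul_assoc, cxd.eq, mul_assoc]
    rcases (h.pair r hd a ⟨ha, hT.nab.symm, hT.cab⟩ y ⟨hy, hT.nac.symm, hT.cac⟩ x ⟨hx, hxd, cxd.symm⟩ s
      ⟨hs, hrs.symm, cds⟩ hT.nbc hT.cbc hxs cxs).1 h2 with ⟨e1, -⟩ | ⟨e1, -⟩
    exacts [hxa e1, hxy e1]
  have hpd := notd p q hp hq cdp cdq cpq hxq hpq cxq ht
  have hqd := notd q p hq hp cdq cdp cpq.symm hxp hpq.symm cxp (by rw [ht, cpq.eq])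
  exact huniq x ⟨hx, hxd, cxd.symm⟩ p ⟨hp, hpd, cdp⟩ q ⟨hq, hqd, cdq⟩ ⟨hxp, hxq, hpq, cxp, cxq, cpq⟩
    ⟨cxa.symm, cap, caq⟩ ⟨cxy.symm, cyp, cyq⟩ ht

include h hI in
/-- a member commuting with a triple product lies in the component of the triple -/
theorem rel_of_comm_triple {d a y b : G} (hd : d ∈ D) (ha : a ∈ D) (hy : y ∈ D) (hT : Tri d a y)
    (hb : b ∈ D) (hc : Commute b (d * (a * y))) : Rel D d b := by
  by_contra hnb
  set t := d * (a * y) with ht
  have cdt : Commute d t := (Commute.refl d).mul_right (hT.cab.mul_right hT.cac)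
  have ht2 : t * t = 1 := by
    rw [ht, (hT.cab.mul_right hT.cac).symm.mul_mul_mul_comm, h.sq d hd, one_mul,
      hT.cbc.symm.mul_mul_mul_comm, h.sq a ha, h.sq y hy, one_mul]
  have ht1 : t ≠ 1 := fun e => h.two a ha y hy hT.nbc hT.cbc (by
    rw [h.eq_one_of_mul hd e]; exact hd)
  rcases h.classify b hb t ht2 ht1 hc.symm with h1 | ⟨x, hx, x', hx', n, c, -, -, e⟩ |
      ⟨b₁, hb₁, b₂, hb₂, b₃, hb₃, hB, cb₁, -, -, e⟩
  · exact h.three d hd a ha y hy hT h1
  · exact h.pair_ne_three hx hx' n c hd ha hy hT e.symm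
  have hnb₁ : ¬ Rel D d b₁ := fun r => hnb (r.trans' (Rel.one hb₁ hb cb₁))
  clear hnb hc hb cb₁
  obtain ⟨u, u', u'', hu, hu', hu'', hU, ⟨cu, cu', cu''⟩, ⟨du, du', du''⟩, hub₂, hub₃, hUt, -⟩ :=
    h.second b₁ hb₁ b₂ ⟨hb₂, hB.nab.symm, hB.cab⟩ b₃ ⟨hb₃, hB.nac.symm, hB.cac⟩ hB.nbc hB.cbc
  rw [← e] at hUt
  have cb₂t : Commute b₂ t := e ▸ hB.cab.symm.mul_right ((Commute.refl b₂).mul_right hB.cbc)
  have cut : Commute u t := e ▸ hu.2.2.symm.mul_right (cu.symm.mul_right du.symm)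
  have cpp : Commute b₂ u := cu
  have hp2 : b₂ * u * (b₂ * u) = 1 := by rw [cpp.symm.mul_mul_mul_comm, h.sq b₂ hb₂, h.sq u hu.1, one_mul]
  have cpt : Commute (b₂ * u) t := cb₂t.mul_left cut
  have htb₂ : t * b₂ = b₁ * b₃ := by
    rw [e, hB.cbc.eq, mul_assoc, mul_assoc, h.sq b₂ hb₂, mul_one]
  have htu : t * u = u' * u'' := by
    rw [hUt, (hU.cab.mul_right hU.cac).eq, mul_assoc, h.sq u hu.1, mul_one]
  have hpb₁ : St D b₁ (b₂ * u) := St.of_comm (hB.cab.mul_right hu.2.2)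
  have htp : t * (b₂ * u) ∉ D := by
    rw [← mul_assoc, htb₂, mul_assoc]
    exact h.three b₁ hb₁ b₃ hb₃ u hu.1 ⟨hB.nac, hu.2.1.symm, hub₃.symm, hB.cac, hu.2.2, du⟩
  -- a member or a pair product of the first component stabilising the second
  have bad : ∀ {g : G}, Commute g (b₂ * u) → St D b₁ g := fun {g} hg => by
    refine (st_of_comm_pair h hb₂ hu.1 hub₂.symm cpp hg).move h (Rel.one hb₂ hb₁ hB.cab.symm)
  rcases dihedral (h.sq d hd) hp2 with ⟨q, -, hq⟩ | ⟨c, hc', hc2, hc1, hcd, hcp, hcases⟩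
  · exact h.two b₂ hb₂ u hu.1 hub₂.symm cpp (hq ▸ h.conjD q d hd)
  have hct : Commute c t := (hc' t cdt.symm cpt.symm).symm
  have hcst : St D b₁ c := bad hcp
  rcases hcases with ⟨⟨g₁, -, e₁⟩, -⟩ | ⟨⟨g₁, hg₁, e₁⟩, -⟩
  · have hcdD : c * d ∈ D := e₁ ▸ h.conjD g₁ d hd
    have hne : d ≠ c * d := fun e' => hc1 (mul_eq_right.mp e'.symm)
    have hcd' : Commute d (c * d) := hcd.symm.mul_right (Commute.refl d)
    have hprod : d * (c * d) = c := by rw [← mul_assoc, ← hcd.eq, mul_assoc, h.sq d hd, mul_one]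
    exact hnb₁ (rel_of_pair_st h hI hd hcdD hne hcd' hb₁ (hprod.symm ▸ hcst)).symm
  -- `c * d` is a conjugate of the mixed pair
  set x₁ := g₁ * b₂ * g₁⁻¹ with hx₁
  set x₂ := g₁ * u * g₁⁻¹ with hx₂
  have hx₁D : x₁ ∈ D := h.conjD g₁ b₂ hb₂
  have hx₂D : x₂ ∈ D := h.conjD g₁ u hu.1
  have hx12 : x₁ ≠ x₂ := conj_ne hub₂.symm
  have c12 : Commute x₁ x₂ := commute_conj cpp
  have hgt : g₁ * t * g₁⁻¹ = t := conj_fix (hg₁ t cdt.symm cpt.symm)
  have hcd2 : c * d = x₁ * x₂ := by rw [← e₁, hx₁, hx₂, ← conj_mul']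
  obtain ⟨cdx₁, cdx₂⟩ := h.comm_pair hx₁D hx₂D hx12 c12 hd
    (by rw [← hcd2]; exact hcd.symm.mul_right (Commute.refl d))
  have cxt : ∀ {v : G}, Commute v t → Commute (g₁ * v * g₁⁻¹) t := fun {v} hv => by
    have := commute_conj (g := g₁) hv; rwa [hgt] at this
  have hay : a * y = d * t := by rw [ht, h.mul_cancel hd]
  obtain ⟨cx₁a, cx₁y⟩ := h.comm_pair ha hy hT.nbc hT.cbc hx₁D
    (by rw [hay]; exact cdx₁.symm.mul_right (cxt cb₂t))
  obtain ⟨cx₂a, cx₂y⟩ := h.comm_pair ha hy hT.nbc hT.cbc hx₂D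
    (by rw [hay]; exact cdx₂.symm.mul_right (cxt cut))
  have ht12 : t * (x₁ * x₂) ∉ D := fun hmem => by
    rw [show t * (x₁ * x₂) = g₁ * (t * (b₂ * u)) * g₁⁻¹ by rw [hx₁, hx₂, conj_mul' g₁ t, hgt, conj_mul' g₁ b₂ u]] at hmem
    have := h.conjD g₁⁻¹ _ hmem
    simp only [mul_assoc, inv_mul_cancel_left, inv_inv, inv_mul_cancel, mul_one] at this
    exact htp this
  obtain ⟨U, V, W, hU1, hV1, hW1, hUVW, -, -, -, -, hUVt, huniq⟩ :=
    h.second d hd a ⟨ha, hT.nab.symm, hT.cab⟩ y ⟨hy, hT.nac.symm, hT.cac⟩ hT.nbc hT.cbc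
  have hm₁ := mate h hd ha hy hT hx₁D cdx₁.symm cx₁a cx₁y (h.conjD g₁ _ hb₁) (h.conjD g₁ _ hb₃)
    (conj_ne hB.nac) (commute_conj hB.cac) (by show t * x₁ = _; rw [hx₁, ← conj_mul', ← htb₂, conj_mul' g₁ t, hgt]) huniq
  have hm₂ := mate h hd ha hy hT hx₂D cdx₂.symm cx₂a cx₂y (h.conjD g₁ _ hu'.1) (h.conjD g₁ _ hu''.1)
    (conj_ne hU.nbc) (commute_conj hU.cbc) (by show t * x₂ = _; rw [hx₂, ← conj_mul', ← htu, conj_mul' g₁ t, hgt]) huniq
  -- both cannot lie in one of the two triples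
  have third : ∀ {r s w : G}, r ∈ D → s ∈ D → w ∈ D → Commute r s → Commute r w → Commute s w →
      t = r * (s * w) → t * (r * s) ∈ D := fun {r s w} hr hs hw c1 c2 c3 e' => by
    have hrs : r * s * (r * s) = 1 := by rw [c1.symm.mul_mul_mul_comm, h.sq r hr, h.sq s hs, one_mul]
    rw [e', ← mul_assoc r s w, mul_assoc (r * s) w, ← (c2.mul_left c3).eq, ← mul_assoc (r * s), hrs, one_mul]
    exact hw
  have split : ∀ {r s : G}, (r = d ∨ r = a ∨ r = y) → (s = U ∨ s = V ∨ s = W) → s ∈ D → Commute s d →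
      Commute s a → Commute s y → r ≠ s → c * d = r * s → False := by
    intro r s hr _ hs csd csa csy hrs e'
    have hcds : c = d * (r * s) := by
      have hh : c = c * d * d := by rw [mul_assoc, h.sq d hd, mul_one]
      rw [hh, e', (show Commute d (r * s) by
        rcases hr with rfl | rfl | rfl
        exacts [(Commute.refl r).mul_right csd.symm, hT.cab.mul_right csd.symm,
          hT.cac.mul_right csd.symm]).eq]
    rcases hr with rfl | rfl | rfl
    · rw [h.mul_cancel hd] at hcds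
      exact hnb₁ ((Rel.one hd hs csd.symm).trans' (rel_of_mem_st h hI hs hb₁ (hcds ▸ hcst)).symm)
    all_goals
      have hb₁t : St D b₁ t := St.of_comm (e ▸ (Commute.refl b₁).mul_right (hB.cab.mul_right hB.cac))
      have hct' : St D b₁ (c * t) := hcst.mul h hb₁t
    · by_cases hsy : s = y
      · exact ht12 (by rw [← hcd2, e', hsy]; exact third ha hy hd hT.cbc hT.cab.symm hT.cac.symm (by
          rw [ht, ← mul_assoc r y, (hT.cab.mul_right hT.cac).eq]))
      have e2 : c * t = s * y := by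
        rw [hcds, ht, (hT.cab.mul_right csd.symm).symm.mul_mul_mul_comm, h.sq d hd, one_mul,
          ← csa.eq, mul_assoc, ← mul_assoc r, h.sq r ha, one_mul]
      exact hnb₁ (((Rel.one hd hs csd.symm).trans' (rel_of_pair_st h hI hs hy hsy csy hb₁ (e2 ▸ hct')).symm))
    · by_cases hsa : s = a
      · exact ht12 (by rw [← hcd2, e', hsa]; exact third hy ha hd hT.cbc.symm hT.cac.symm hT.cab.symm (by
          rw [ht, ← mul_assoc r a, hT.cbc.symm.eq, (hT.cab.mul_right hT.cac).eq]))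
      have e2 : c * t = s * a := by
        rw [hcds, ht, (hT.cac.mul_right csd.symm).symm.mul_mul_mul_comm, h.sq d hd, one_mul,
          ← csy.eq, hT.cbc.eq, mul_assoc, ← mul_assoc r r, h.sq r hy, one_mul]
      exact hnb₁ (((Rel.one hd hs csd.symm).trans' (rel_of_pair_st h hI hs ha hsa csa hb₁ (e2 ▸ hct')).symm))
  rcases hm₁ with h₁ | h₁ <;> rcases hm₂ with h₂ | h₂
  · refine ht12 ?_
    rcases h₁ with e1 | e1 | e1 <;> rcases h₂ with e2 | e2 | e2 <;> rw [e1, e2] at hx12 ⊢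
    all_goals first
      | exact absurd rfl hx12
      | exact third hd ha hy hT.cab hT.cac hT.cbc rfl
      | exact third hd hy ha hT.cac hT.cab hT.cbc.symm (by rw [ht, hT.cbc.eq])
      | exact third ha hy hd hT.cbc hT.cab.symm hT.cac.symm (by rw [ht, ← mul_assoc a y, (hT.cab.mul_right hT.cac).eq])
      | exact third ha hd hy hT.cab.symm hT.cbc hT.cac (by rw [ht, ← mul_assoc, hT.cab.eq, mul_assoc])
      | exact third hy hd ha hT.cac.symm hT.cbc.symm hT.cab (by rw [ht, hT.cbc.eq, ← mul_assoc, hT.cac.eq, mul_assoc])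
      | exact third hy ha hd hT.cbc.symm hT.cac.symm hT.cab.symm (by rw [ht, ← mul_assoc y a, hT.cbc.symm.eq, (hT.cab.mul_right hT.cac).eq])
  · exact split h₁ h₂ hx₂D cdx₂.symm cx₂a cx₂y hx12 hcd2
  · exact split h₂ h₁ hx₁D cdx₁.symm cx₁a cx₁y hx12.symm (hcd2.trans c12.eq)
  · refine ht12 ?_
    rcases h₁ with e1 | e1 | e1 <;> rcases h₂ with e2 | e2 | e2 <;> rw [e1, e2] at hx12 ⊢
    all_goals first
      | exact absurd rfl hx12
      | exact third hU1.1 hV1.1 hW1.1 hUVW.cab hUVW.cac hUVW.cbc hUVt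
      | exact third hU1.1 hW1.1 hV1.1 hUVW.cac hUVW.cab hUVW.cbc.symm (by rw [ht, hUVt, hUVW.cbc.eq])
      | exact third hV1.1 hW1.1 hU1.1 hUVW.cbc hUVW.cab.symm hUVW.cac.symm (by rw [ht, hUVt, ← mul_assoc V W, (hUVW.cab.mul_right hUVW.cac).eq])
      | exact third hV1.1 hU1.1 hW1.1 hUVW.cab.symm hUVW.cbc hUVW.cac (by rw [ht, hUVt, ← mul_assoc, hUVW.cab.eq, mul_assoc])
      | exact third hW1.1 hU1.1 hV1.1 hUVW.cac.symm hUVW.cbc.symm hUVW.cab (by rw [ht, hUVt, hUVW.cbc.eq, ← mul_assoc, hUVW.cac.eq, mul_assoc])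
      | exact third hW1.1 hV1.1 hU1.1 hUVW.cbc.symm hUVW.cac.symm hUVW.cab.symm (by rw [ht, hUVt, ← mul_assoc W V, hUVW.cbc.symm.eq, (hUVW.cab.mul_right hUVW.cac).eq])

include h hI in
/-- the commuting graph is connected -/
theorem connected {d b : G} (hd : d ∈ D) (hb : b ∈ D) (hnd : ∃ a, a ∈ nb D d) : Rel D d b := by
  by_contra hnb
  obtain ⟨a, ha, had, cda⟩ := hnd
  have hj2 : d * a * (d * a) = 1 := by rw [cda.symm.mul_mul_mul_comm, h.sq d hd, h.sq a ha, one_mul]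
  rcases dihedral hj2 (h.sq b hb) with ⟨q, -, hq⟩ | ⟨c, hc', hc2, hc1, hcj, hcb, hcases⟩
  · have := h.conjD q⁻¹ b hb
    rw [← hq] at this
    simp only [mul_assoc, inv_mul_cancel_left, inv_inv, inv_mul_cancel, mul_one] at this
    exact h.two d hd a ha had.symm cda this
  have hst : St D d c := st_of_comm_pair h hd ha had.symm cda hcj
  rcases hcases with ⟨-, ⟨g, -, e⟩⟩ | ⟨⟨g, -, e⟩, -⟩
  · have hcbD : c * b ∈ D := e ▸ h.conjD g b hb
    have hne : b ≠ c * b := fun e' => hc1 (mul_eq_right.mp e'.symm)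
    have hprod : b * (c * b) = c := by rw [← mul_assoc, ← hcb.eq, mul_assoc, h.sq b hb, mul_one]
    exact hnb (rel_of_pair_st h hI hb hcbD hne (hcb.symm.mul_right (Commute.refl b)) hd (hprod.symm ▸ hst))
  have hy : c * (d * a) ∈ D := e ▸ h.conjD g b hb
  set y := c * (d * a) with hydef
  have cyj : Commute y (d * a) := hcj.mul_left (Commute.refl _)
  obtain ⟨cyd, cya⟩ := h.comm_pair hd ha had.symm cda hy cyj
  have hyc : y * (d * a) = c := by rw [hydef, mul_assoc, hj2, mul_one]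
  by_cases hyd : y = d
  · rw [hyd, h.mul_cancel hd] at hyc
    exact hnb ((Rel.one hd ha cda).trans' (Rel.one ha hb (hyc ▸ hcb)))
  by_cases hya : y = a
  · rw [hya, cda.eq, h.mul_cancel ha] at hyc
    exact hnb (Rel.one hd hb (hyc ▸ hcb))
  exact hnb ((Rel.one hd hy cyd.symm).trans'
    (rel_of_comm_triple h hI hy hd ha ⟨hyd, hya, had.symm, cyd, cya, cda⟩ hb (hyc.symm ▸ hcb.symm)))

end Cfsg.Agent.Lib.Fi22Cent27
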