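import Mathlib
import Cfsg.Agent.Lib.U62J.Classes
import Cfsg.Agent.Lib.U62J.PairFacts

/-!
The twenty-one Hermitian forms of rank one on a three-dimensional space over `K4`.
-/

set_option autoImplicit false
set_option maxRecDepth 100000
set_option maxHeartbeats 4000000
set_option synthInstance.maxSize 4000

namespace Cfsg.Agent.Lib.Fi22Cent27

open Cfsg.Agent.Lib.G24 (K4)
open Cfsg.Agent.Lib.U62J

/-- forms of rank one -/
def pts : Finset HP :=
  ((Finset.univ : Finset (K4 × K4 × K4)).filter fun v => v ≠ 0).image fun v => outer ![v.1, v.2.1, v.2.2]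

/-- third diagonal form -/
def p3 : HP := (0, 0, 1, 0, 0, 0)

/-- two further frames of the identity -/
def frame : Fin 3 → Fin 3 → HP :=
  ![![r1, p2, p3],
    ![outer ![1, 1, 1], outer ![1, K4.w, K4.v], outer ![1, K4.v, K4.w]],
    ![outer ![1, 1, K4.w], outer ![1, K4.w, 1], outer ![K4.w, 1, 1]]]

theorem card_pts : pts.card = 21 := by decide +kernel

theorem cls_pts : ∀ p ∈ pts, cls p = 1 := by decide +kernel

theorem frame_mem : ∀ i j, frame i j ∈ pts := by decide +kernel

theorem frame_sum : ∀ i, frame i 0 + frame i 1 + frame i 2 = (1, 1, 1, 0, 0, 0) := by decide +kernel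

theorem frame_ne : ∀ i j i' j', (i, j) ≠ (i', j') → frame i j ≠ frame i' j' := by decide +kernel

theorem r1_mem : r1 ∈ pts := by decide +kernel

theorem pair_cls : ∀ q ∈ pts, q ≠ r1 → r1 + q ≠ 0 ∧ cls (r1 + q) = 2 := by decide +kernel

/-- forms completing `p` inside a triple -/
def triples (p : HP) : Finset HP :=
  pts.filter fun a => ∃ b ∈ pts, a ≠ b ∧ p + a + b ∈ pts ∧ p + a + b ≠ a ∧ p + a + b ≠ b

theorem card_triples : ∀ q ∈ pts, q ≠ r1 → (triples (r1 + q)).card ≤ 3 := by decide +kernel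

theorem pts_act (g : SL3) {p : HP} (hp : p ∈ pts) : act g p ∈ pts := by
  obtain ⟨v, hv, rfl⟩ := Finset.mem_image.mp hp
  refine Finset.mem_image.mpr ⟨((g.1.mulVec ![v.1, v.2.1, v.2.2]) 0, (g.1.mulVec ![v.1, v.2.1, v.2.2]) 1,
    (g.1.mulVec ![v.1, v.2.1, v.2.2]) 2), ?_, ?_⟩
  · simp only [Finset.mem_filter, Finset.mem_univ, true_and] at hv ⊢
    intro h
    refine hv ?_
    have h0 : g.1.mulVec ![v.1, v.2.1, v.2.2] = 0 := by
      funext i
      simp only [Prod.ext_iff, Prod.fst_zero, Prod.snd_zero] at h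
      fin_cases i
      exacts [h.1, h.2.1, h.2.2]
    have h1 : ((g⁻¹ : SL3)).1.mulVec (g.1.mulVec ![v.1, v.2.1, v.2.2]) = 0 := by rw [h0, Matrix.mulVec_zero]
    rw [Matrix.mulVec_mulVec, ← Matrix.SpecialLinearGroup.coe_mul, inv_mul_cancel,
      Matrix.SpecialLinearGroup.coe_one, Matrix.one_mulVec] at h1
    exact Prod.ext (congrFun h1 0) (Prod.ext (congrFun h1 1) (congrFun h1 2))
  · set w := ![v.1, v.2.1, v.2.2] with hw
    have he : ![(g.1.mulVec w) 0, (g.1.mulVec w) 1, (g.1.mulVec w) 2] = g.1.mulVec w :=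
      List.ofFn_inj.mp rfl
    rw [he, outer, outer, act]
    have hm : ct (Matrix.vecMulVec w (cj ∘ w)) = Matrix.vecMulVec w (cj ∘ w) := by
      ext i j; simp [ct, Matrix.vecMulVec, cj_cj, mul_comm]
    rw [mat_toP hm]
    congr 1
    rw [Matrix.mul_vecMulVec, Matrix.vecMulVec_mul]
    congr 1
    funext i
    simp [ct, Matrix.vecMul, Matrix.mulVec, dotProduct, map_sum, mul_comm]

theorem exists_act_r1 {p : HP} (hp : p ∈ pts) : ∃ g, act g r1 = p := by
  have h := eq_rep (fun p => ∃ g, act g r1 = p) (fun g p => propext ⟨fun ⟨k, hk⟩ => ⟨g⁻¹ * k, by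
    rw [act_mul, hk, ← act_mul, inv_mul_cancel, act_one]⟩, fun ⟨k, hk⟩ => ⟨g * k, by rw [act_mul, hk]⟩⟩)
    (p := p) (fun e => by have := cls_pts p hp; rw [e, cls_zero] at this; omega)
  rw [h, cls_pts p hp]
  exact ⟨1, act_one r1⟩

theorem mem_pts_of_cls {p : HP} (hp : p ≠ 0) (h : cls p = 1) : p ∈ pts := by
  have h' := eq_rep (fun p => p ∈ pts) (fun g p => propext
    ⟨fun hq => by have := pts_act g⁻¹ hq; rwa [← act_mul, inv_mul_cancel, act_one] at this, pts_act g⟩) hp
  rw [h', h]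
  exact r1_mem

theorem act_inj (g : SL3) : Function.Injective (act g) := fun p q h => by
  have := congrArg (act g⁻¹) h
  rwa [← act_mul, ← act_mul, inv_mul_cancel, act_one, act_one] at this

end Cfsg.Agent.Lib.Fi22Cent27
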