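import Mathlib
import Cfsg.Agent.Lib.U62J.Count
import Cfsg.Agent.Lib.Fi22Cent27.Setting
import Cfsg.Agent.Lib.Fi22Cent27.Forms

/-!
Neighbours of an involution whose centraliser is a double cover of `PSU(6, 2)`: one lift of every
transvection is conjugate to the involution, and these are its neighbours.
-/

set_option autoImplicit false
set_option linter.unusedSectionVars false
set_option linter.style.haveILetI false

namespace Cfsg.Agent.Lib.Fi22Cent27

open Cfsg.Agent.Lib.G24 (K4)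
open Cfsg.Agent.Lib.U62J
open Matrix
open Cfsg.Agent.Lib.Unitary
open Cfsg.Agent.Lib.UnitaryFour.Transvection (tv tv_conj tv_comm tv_mul_self act_tv act_smul act_herm act_inv_self act_def)
open Cfsg.Agent.Lib.UnitaryFour.Classes (eq_iff_parallel commute_iff)

local notation "h⟪" u ", " v "⟫" => Cfsg.hermForm 6 K4 2 u v
local notation "σ" => Cfsg.Agent.Lib.UnitaryFour.Transvection.act

/-- nonzero isotropic vectors -/
abbrev Pt := {v : Fin 6 → K4 // h⟪v, v⟫ = 0 ∧ v ≠ 0}

/-- transvections of the quotient -/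
def T (v : Pt) : Q6 := ph (tv card_K4 v.1 v.2.1)

/-- image of a point -/
def move (s : Cfsg.SU 6 K4 2) (v : Pt) : Pt :=
  ⟨σ s v.1, by rw [act_herm]; exact v.2.1, fun e => v.2.2 (by
    rw [← act_inv_self s v.1, e, act_def, Matrix.mulVec_zero])⟩

theorem T_move (s : Cfsg.SU 6 K4 2) (v : Pt) : T (move s v) = ph s * T v * (ph s)⁻¹ := by
  show ph (tv card_K4 (σ s v.1) (move s v).2.1) = ph s * ph _ * (ph s)⁻¹
  rw [tv_conj card_K4 s v.2.1 (move s v).2.1, map_mul, map_mul, map_inv]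

theorem move_move (s s' : Cfsg.SU 6 K4 2) (v : Pt) : move (s * s') v = move s (move s' v) :=
  Subtype.ext (UnitaryFour.Transvection.act_mul s s' v.1)

/-- the standard point -/
def e0 : Pt :=
  ⟨ev 0, by rw [herm_coords, crd_ev]; simp, fun e => by
    have := congrArg (fun v => crd v 0) e
    simp only [crd_ev] at this
    simp [crd] at this⟩

theorem T_e0 : T e0 = uQ r1 := by
  show ph _ = ph (u r1)
  congr 1
  refine co_inj ?_
  rw [co_u]
  have e : Pm *ᵥ ![(1 : K4), 0, 0, 0, 0, 0] = ev 0 := by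
    rw [ev]; congr 1; funext i; fin_cases i <;> simp
  show Qm * rk1 2 1 (ev 0) (ev 0) * Pm = _
  rw [← e, tv_mat 1 0 0]
  decide +kernel

theorem exists_move (v : Pt) : ∃ s, move s e0 = v := by
  obtain ⟨A, hd, hA⟩ := exists_SU_isotropic card_K4 (by norm_num) e0.2.2 e0.2.1 v.2.2 v.2.1
  exact ⟨⟨⟨A.1.1, hd⟩, fun x y => A.2 x y⟩, Subtype.ext hA⟩

theorem exists_pt {p : HP} (hp : p ∈ pts) : ∃ v : Pt, T v = uQ p := by
  obtain ⟨g, rfl⟩ := exists_act_r1 hp
  exact ⟨move (l g) e0, by rw [T_move, T_e0]; exact lQ_conj g r1⟩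

theorem T_sq (v : Pt) : T v * T v = 1 := by rw [T, ← map_mul, tv_mul_self, map_one]

theorem T_eq_iff (v w : Pt) : T v = T w ↔ ∃ a : K4, a ≠ 0 ∧ w.1 = a • v.1 :=
  eq_iff_parallel ph card_K4 ker_ph v.2.1 w.2.1 v.2.2 w.2.2

theorem T_ne_one (v : Pt) : T v ≠ 1 :=
  UnitaryFour.Classes.ne_one ph card_K4 ker_ph v.2.1 v.2.2

theorem T_commute (v w : Pt) : Commute (T v) (T w) ↔ h⟪v.1, w.1⟫ = 0 :=
  commute_iff ph card_K4 ker_ph v.2.1 w.2.1

/-- a product of two commuting transvections determines them -/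
theorem T_pair {x y u w : Pt} (hxy : h⟪x.1, y.1⟫ = 0) (huw : h⟪u.1, w.1⟫ = 0) (hne : T x ≠ T y)
    (hne' : T u ≠ T w) (h : T x * T y = T u * T w) :
    (T u = T x ∧ T w = T y) ∨ (T u = T y ∧ T w = T x) := by
  set a := tv card_K4 x.1 x.2.1 * tv card_K4 y.1 y.2.1 with ha
  set b := tv card_K4 u.1 u.2.1 * tv card_K4 w.1 w.2.1 with hb
  have ha2 : a * a = 1 := by
    rw [ha, (tv_comm card_K4 x.2.1 y.2.1 hxy).symm.mul_mul_mul_comm, tv_mul_self, tv_mul_self, one_mul]
  have hb2 : b * b = 1 := by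
    rw [hb, (tv_comm card_K4 u.2.1 w.2.1 huw).symm.mul_mul_mul_comm, tv_mul_self, tv_mul_self, one_mul]
  have hph : ph a = ph b := by rw [ha, hb, map_mul, map_mul]; exact h
  have hz : a * b⁻¹ ∈ Subgroup.center _ := mem_ker_ph (by rw [map_mul, map_inv, hph, mul_inv_cancel])
  have hab : a = b := by
    refine mul_inv_eq_one.mp (one_of_central_invol ?_ hz)
    calc a * b⁻¹ * (a * b⁻¹) = a * (a * b⁻¹ * b⁻¹) := by
          rw [mul_assoc a b⁻¹, ← Subgroup.mem_center_iff.mp hz b⁻¹]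
      _ = a * a * (b * b)⁻¹ := by group
      _ = 1 := by rw [ha2, hb2, inv_one, mul_one]
  have hv : ∀ z, h⟪z, x.1⟫ • x.1 + h⟪z, y.1⟫ • y.1 = h⟪z, u.1⟫ • u.1 + h⟪z, w.1⟫ • w.1 := by
    intro z
    have := congrArg (fun g => σ g z) hab
    simp only [ha, hb, UnitaryFour.Transvection.act_mul, act_tv, herm_add_left, herm_smul_left, herm_eq_zero_symm card_K4 hxy,
      herm_eq_zero_symm card_K4 huw, mul_zero, add_zero, add_assoc, add_right_inj] at this
    rw [add_comm, this, add_comm]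
  have hli : LinearIndependent K4 ![x.1, y.1] := by
    rw [LinearIndependent.pair_iff' x.2.2]
    intro k hk
    exact hne ((T_eq_iff x y).mpr ⟨k, fun h0 => y.2.2 (by rw [← hk, h0, zero_smul]), hk.symm⟩)
  have hli' : LinearIndependent K4 ![u.1, w.1] := by
    rw [LinearIndependent.pair_iff' u.2.2]
    intro k hk
    exact hne' ((T_eq_iff u w).mpr ⟨k, fun h0 => w.2.2 (by rw [← hk, h0, zero_smul]), hk.symm⟩)
  obtain ⟨f, t, huf, hwt, hfw, htu, -⟩ := exists_double_hyp card_K4 hli' u.2.1 w.2.1 huw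
  have h1 := hv f
  have h2 := hv t
  rw [huf.symm' card_K4, hfw, zero_smul, add_zero, one_smul] at h1
  rw [hwt.symm' card_K4, htu, zero_smul, zero_add, one_smul] at h2
  obtain ⟨f', t', hxf, hyt, hfy, htx, -⟩ := exists_double_hyp card_K4 hli x.2.1 y.2.1 hxy
  have h3 := hv f'
  rw [hxf.symm' card_K4, hfy, zero_smul, add_zero, one_smul] at h3
  generalize h⟪f, x.1⟫ = α at h1
  generalize h⟪f, y.1⟫ = β at h1
  generalize h⟪t, x.1⟫ = γ at h2
  generalize h⟪t, y.1⟫ = δ at h2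
  by_cases hβ : β = 0
  · rw [hβ, zero_smul, add_zero] at h1
    have hα : α ≠ 0 := fun h0 => u.2.2 (by rw [← h1, h0, zero_smul])
    have hux : T u = T x := ((T_eq_iff x u).mpr ⟨α, hα, h1.symm⟩).symm
    rw [hux] at h
    exact Or.inl ⟨hux, (mul_left_cancel h).symm⟩
  by_cases hα : α = 0
  · rw [hα, zero_smul, zero_add] at h1
    have huy : T u = T y := ((T_eq_iff y u).mpr ⟨β, hβ, h1.symm⟩).symm
    have hc := (T_commute x y).mpr hxy
    rw [huy, hc.eq] at h
    exact Or.inr ⟨huy, (mul_left_cancel h).symm⟩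
  exfalso
  -- compare the coefficient of `x` in the image of `f'`
  rw [← h1, ← h2, herm_add_right _ _ _ card_K4, herm_add_right _ _ _ card_K4, herm_smul_right, herm_smul_right,
    herm_smul_right, herm_smul_right, hxf.symm' card_K4, hfy, mul_zero, mul_zero, add_zero, add_zero, mul_one,
    mul_one, smul_add, smul_add, smul_smul, smul_smul, smul_smul, smul_smul] at h3
  have h4 : (1 : K4) • x.1 + (0 : K4) • y.1 =
      (α ^ 2 * α + γ ^ 2 * γ) • x.1 + (α ^ 2 * β + γ ^ 2 * δ) • y.1 := by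
    rw [one_smul, zero_smul, add_zero, add_smul, add_smul]
    refine h3.trans ?_
    abel
  obtain ⟨c1, c2⟩ := LinearIndependent.pair_iff.mp hli (1 - (α ^ 2 * α + γ ^ 2 * γ)) (0 - (α ^ 2 * β + γ ^ 2 * δ)) (by
    rw [sub_smul, sub_smul, add_sub_assoc', sub_add_eq_add_sub, sub_sub, h4]; abel)
  have key : ∀ a b c e : K4, a ≠ 0 → b ≠ 0 → 1 - (a ^ 2 * a + c ^ 2 * c) = 0 →
      0 - (a ^ 2 * b + c ^ 2 * e) = 0 → False := by decide +kernel
  exact key α β γ δ hα hβ c1 c2

variable {G : Type*} [Group G] [Finite G] {d : G}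
variable {π : ↥(Subgroup.centralizer ({d} : Set G)) →* Q6}

/-- the numbers of conjugates over the three classes of forms -/
structure Base (π : ↥(Subgroup.centralizer ({d} : Set G)) →* Q6) : Prop where
  cov : Cov π (dC d)
  one : cnt cov r1 = 1
  two : cnt cov (rep 2) = 0
  three : cnt cov (rep 3) = 0

theorem base_of (hcov : Cov π (dC d))
    (hperf : commutator ↥(Subgroup.centralizer ({d} : Set G)) = ⊤)
    (hnwc : ∃ g : G, g * d * g⁻¹ ∈ Subgroup.centralizer ({d} : Set G) ∧ g * d * g⁻¹ ≠ d) : Base π := by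
  have h := (radical_main hcov hperf hnwc).2.2.1
  rw [ncard_eq hcov] at h
  have h1 : cnt hcov (rep 1) ≤ 1 := cnt_one hcov
  refine ⟨hcov, ?_, by omega, by omega⟩
  show cnt hcov (rep 1) = 1
  omega

variable (B : Base π)

include B in
theorem mem_center_dC (c : ↥(Subgroup.centralizer ({d} : Set G))) : c * dC d = dC d * c := (B.cov.comm c).symm

include B in
theorem exists_lift (v : Pt) : ∃ z, π z = T v ∧ IsCj z := by
  obtain ⟨s, rfl⟩ := exists_move v
  obtain ⟨c, hc⟩ := B.cov.surj (ph s)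
  have h : cnt B.cov r1 = 1 := B.one
  have hπ : ∀ z, π z = uQ r1 → π (c * z * c⁻¹) = T (move s e0) := fun z hz => by
    rw [map_mul, map_mul, map_inv, hc, hz, T_move, T_e0]
  by_cases hs : IsCj (sec B.cov r1)
  · exact ⟨_, hπ _ (sec_spec B.cov r1), (isCj_conj c _).mpr hs⟩
  · refine ⟨_, hπ _ (sec_d_spec B.cov r1), (isCj_conj c _).mpr (ind_eq_one ?_)⟩
    rw [cnt, ind_zero hs] at h
    omega

include B in
theorem lift_unique {v : Pt} {z z' : ↥(Subgroup.centralizer ({d} : Set G))} (hz : π z = T v) (hc : IsCj z)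
    (hz' : π z' = T v) (hc' : IsCj z') : z = z' := by
  obtain ⟨s, rfl⟩ := exists_move v
  obtain ⟨c, hcs⟩ := B.cov.surj (ph s)
  rcases B.cov.eq_or (hz.trans hz'.symm) with e | e
  · exact e
  exfalso
  have hp : π (c⁻¹ * z' * c⁻¹⁻¹) = uQ r1 := by
    rw [map_mul, map_mul, map_inv, map_inv, map_inv, hcs, hz', T_move, T_e0]; group
  have h := cnt_spec B.cov hp
  rw [B.one, ind_pos ((isCj_conj c⁻¹ z').mpr hc'), show c⁻¹ * z' * c⁻¹⁻¹ * dC d = c⁻¹ * z * c⁻¹⁻¹ by
    rw [e, mul_assoc (c⁻¹ * z'), mem_center_dC B, ← mul_assoc, mul_assoc c⁻¹ z'], ind_pos ((isCj_conj c⁻¹ z).mpr hc)] at h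
  omega

/-- the conjugate of `d` over a transvection -/
noncomputable def P (B : Base π) (v : Pt) : ↥(Subgroup.centralizer ({d} : Set G)) :=
  Classical.choose (exists_lift B v)

theorem P_spec (v : Pt) : π (P B v) = T v ∧ IsCj (P B v) := Classical.choose_spec (exists_lift B v)

theorem P_mem (v : Pt) : (P B v : G) ∈ conjugatesOf d := (P_spec B v).2

theorem eq_P {v : Pt} {z : ↥(Subgroup.centralizer ({d} : Set G))} (hz : π z = T v) (hc : IsCj z) :
    z = P B v :=
  lift_unique B hz hc (P_spec B v).1 (P_spec B v).2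

theorem P_conj {s : Cfsg.SU 6 K4 2} {c : ↥(Subgroup.centralizer ({d} : Set G))} (hc : π c = ph s) (v : Pt) :
    c * P B v * c⁻¹ = P B (move s v) :=
  eq_P B (by rw [map_mul, map_mul, map_inv, hc, (P_spec B v).1, T_move]) ((isCj_conj c _).mpr (P_spec B v).2)

theorem P_eq_iff (v w : Pt) : P B v = P B w ↔ T v = T w := by
  refine ⟨fun e => ?_, fun e => (eq_P B ((P_spec B v).1.trans e) (P_spec B v).2)⟩
  rw [← (P_spec B v).1, e, (P_spec B w).1]

theorem P_eq_iff' (v w : Pt) : P B v = P B w ↔ ∃ a : K4, a ≠ 0 ∧ w.1 = a • v.1 :=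
  (P_eq_iff B v w).trans (T_eq_iff v w)

/-- conjugation inside the neighbourhood -/
theorem P_formula (v w : Pt) : ∃ u : Pt, u.1 = w.1 + h⟪w.1, v.1⟫ • v.1 ∧ P B v * P B w * (P B v)⁻¹ = P B u :=
  ⟨move (tv card_K4 v.1 v.2.1) w, act_tv card_K4 v.2.1 w.1, P_conj B (P_spec B v).1 w⟩

theorem P_commute (v w : Pt) : Commute (P B v) (P B w) ↔ h⟪v.1, w.1⟫ = 0 := by
  refine ⟨fun e => (T_commute v w).mp ?_, fun e => ?_⟩
  · have := e.map π
    rwa [(P_spec B v).1, (P_spec B w).1] at this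
  · obtain ⟨u, hu, hP⟩ := P_formula B v w
    rw [herm_eq_zero_symm card_K4 e, zero_smul, add_zero] at hu
    rw [show u = w from Subtype.ext hu] at hP
    exact mul_inv_eq_iff_eq_mul.mp hP

theorem P_ne_d (v : Pt) : (P B v : G) ≠ d := fun e => T_ne_one v (by
  rw [← (P_spec B v).1, show P B v = dC d from Subtype.ext e, B.cov.pid])

theorem comm_d (x : ↥(Subgroup.centralizer ({d} : Set G))) : Commute d (x : G) :=
  (Subgroup.mem_centralizer_singleton_iff.mp x.2).symm

theorem P_nb (v : Pt) : (P B v : G) ∈ nb (conjugatesOf d) d := ⟨P_mem B v, P_ne_d B v, comm_d _⟩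

include B in
/-- every neighbour is such a lift -/
theorem exists_P {x : G} (hx : x ∈ nb (conjugatesOf d) d) : ∃ v, (P B v : G) = x := by
  obtain ⟨hxD, hxd, hc⟩ := hx
  set z : ↥(Subgroup.centralizer ({d} : Set G)) := ⟨x, Subgroup.mem_centralizer_singleton_iff.mpr hc.symm⟩
  have hzc : IsCj z := hxD
  have hd2 : d * d = 1 := congrArg Subtype.val B.cov.dd
  have hz2 : z * z = 1 := Subtype.ext (by
    obtain ⟨g, hg⟩ := isConj_iff.mp (show IsConj d x from hxD)
    show x * x = 1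
    rw [← hg, show g * d * g⁻¹ * (g * d * g⁻¹) = g * (d * d) * g⁻¹ by group, hd2, mul_one, mul_inv_cancel])
  obtain ⟨c, hcA⟩ := B.cov.exists_conj_mem hz2
  obtain ⟨p, hp⟩ := mem_A0.mp hcA
  have hcj : IsCj (c * z * c⁻¹) := (isCj_conj c z).mpr hzc
  have hp0 : p ≠ 0 := fun h0 => by
    rw [h0, uQ_zero] at hp
    rcases (B.cov.ker_iff _).mp hp.symm with e | e
    · exact not_isCj_one B.cov (e ▸ hcj)
    · have : z = dC d := by
        calc z = c⁻¹ * (c * z * c⁻¹) * c := by group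
          _ = c⁻¹ * (dC d * c) := by rw [e, mul_assoc]
          _ = dC d := by rw [← mem_center_dC B, inv_mul_cancel_left]
      exact hxd (congrArg Subtype.val this)
  have hcnt := cnt_spec B.cov hp.symm
  rw [ind_pos hcj, cnt_rep B.cov hp0] at hcnt
  have hcls : cls p = 1 := by
    rcases cls_range hp0 with h | h | h
    · exact h
    · rw [h, B.two] at hcnt; omega
    · rw [h, B.three] at hcnt; omega
  obtain ⟨v, hv⟩ := exists_pt (mem_pts_of_cls hp0 hcls)
  obtain ⟨s, hs⟩ := ph_surjective (π c)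
  refine ⟨move s⁻¹ v, congrArg Subtype.val (?_ : P B (move s⁻¹ v) = z)⟩
  rw [← P_conj B (c := c⁻¹) (by rw [map_inv, map_inv, hs]) v,
    ← eq_P B (z := c * z * c⁻¹) (by rw [← hp, hv]) hcj]
  group

end Cfsg.Agent.Lib.Fi22Cent27
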