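import Mathlib
import Cfsg.Agent.Lib.Fi22Cent27.Point

/-!
The twenty-two conjugates of the involution in the radical: two triples for every product of three,
six with product the involution.
-/

set_option autoImplicit false
set_option linter.unusedSectionVars false
set_option linter.style.haveILetI false
set_option synthInstance.maxSize 4000

namespace Cfsg.Agent.Lib.Fi22Cent27

open Cfsg.Agent.Lib.G24 (K4)
open Cfsg.Agent.Lib.U62J

theorem exists_act_rep {p : HP} (hp : p ≠ 0) : ∃ g, act g (rep (cls p)) = p := by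
  have h := eq_rep (fun q => ∃ g, act g q = p) (fun g q => propext ⟨fun ⟨k, hk⟩ => ⟨k * g, by rwa [act_mul]⟩,
    fun ⟨k, hk⟩ => ⟨k * g⁻¹, by rw [← act_mul, inv_mul_cancel_right]; exact hk⟩⟩) hp
  rw [← h]
  exact ⟨1, act_one p⟩

/-- an invariant property of sums of two forms of rank one -/
theorem eq_rep_two {X : Type*} (N : HP → X) (hN : ∀ g p, N (act g p) = N p) {p q : HP} (hp : p ∈ pts)
    (hq : q ∈ pts) (hne : p ≠ q) : p + q ≠ 0 ∧ N (p + q) = N (rep 2) := by
  refine ⟨fun e => hne ?_, ?_⟩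
  · calc p = p + (q + q) := by rw [hp_add_self, add_zero]
      _ = q := by rw [← add_assoc, e, zero_add]
  obtain ⟨g, rfl⟩ := exists_act_r1 hp
  have hq' : act g⁻¹ q ∈ pts := pts_act _ hq
  have e : act g (act g⁻¹ q) = q := by rw [← act_mul, mul_inv_cancel, act_one]
  have hne' : act g⁻¹ q ≠ r1 := fun h => hne (by rw [← h, e])
  obtain ⟨h0, h2⟩ := pair_cls _ hq' hne'
  rw [← e, ← act_add, hN, eq_rep N hN h0, h2]

theorem mem_triples {p a b c : HP} (ha : a ∈ pts) (hb : b ∈ pts) (hc : c ∈ pts) (h1 : a ≠ b) (h2 : a ≠ c)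
    (h3 : b ≠ c) (h : a + b + c = p) : a ∈ triples p := by
  have e : p + a + b = c := by
    rw [← h, show a + b + c + a + b = (a + a) + (b + b) + c by abel, hp_add_self, hp_add_self, zero_add, zero_add]
  refine Finset.mem_filter.mpr ⟨ha, b, hb, h1, ?_⟩
  rw [e]
  exact ⟨hc, h2.symm, h3.symm⟩

theorem act_triples (g : SL3) {p a : HP} (ha : a ∈ triples p) : act g a ∈ triples (act g p) := by
  obtain ⟨h1, b, hb, n1, hc, n2, n3⟩ := Finset.mem_filter.mp ha
  refine Finset.mem_filter.mpr ⟨pts_act g h1, act g b, pts_act g hb, fun e => n1 (act_inj g e), ?_⟩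
  rw [← act_add, ← act_add]
  exact ⟨pts_act g hc, fun e => n2 (act_inj g e), fun e => n3 (act_inj g e)⟩

theorem card_triples_le {p q : HP} (hp : p ∈ pts) (hq : q ∈ pts) (hne : p ≠ q) : (triples (p + q)).card ≤ 3 := by
  obtain ⟨g, rfl⟩ := exists_act_r1 hp
  have e : act g (act g⁻¹ q) = q := by rw [← act_mul, mul_inv_cancel, act_one]
  have hne' : act g⁻¹ q ≠ r1 := fun h => hne (by rw [← h, e])
  refine le_trans (Finset.card_le_card_of_injOn (act g⁻¹) (fun a ha => ?_) ((act_inj _).injOn))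
    (card_triples _ (pts_act g⁻¹ hq) hne')
  have := act_triples g⁻¹ (Finset.mem_coe.mp ha)
  rw [act_add, ← act_mul, inv_mul_cancel, act_one] at this
  exact this

variable {G : Type*} [Group G] [Finite G] {d : G}
variable {π : ↥(Subgroup.centralizer ({d} : Set G)) →* Q6}
variable (B : Base π)

open Classical in
/-- the conjugate of `d` over a form of rank one -/
noncomputable def L (B : Base π) (p : HP) : ↥(Subgroup.centralizer ({d} : Set G)) :=
  if h : p ∈ pts then P B (Classical.choose (exists_pt h)) else 1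

theorem L_spec {p : HP} (hp : p ∈ pts) : π (L B p) = uQ p ∧ IsCj (L B p) := by
  rw [L, dif_pos hp, (P_spec B _).1]
  exact ⟨Classical.choose_spec (exists_pt hp), (P_spec B _).2⟩

theorem L_mem {p : HP} (hp : p ∈ pts) : L B p ∈ A0 π := ⟨p, (L_spec B hp).1.symm⟩

theorem eq_L {p : HP} (hp : p ∈ pts) {z : ↥(Subgroup.centralizer ({d} : Set G))} (hz : π z = uQ p)
    (hc : IsCj z) : z = L B p := by
  obtain ⟨v, hv⟩ := exists_pt hp
  exact lift_unique B (v := v) (hz.trans hv.symm) hc ((L_spec B hp).1.trans hv.symm) (L_spec B hp).2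

theorem L_inj {p q : HP} (hp : p ∈ pts) (hq : q ∈ pts) (e : L B p = L B q) : p = q :=
  uQ_inj (by rw [← (L_spec B hp).1, e, (L_spec B hq).1])

theorem L_nb {p : HP} (hp : p ∈ pts) : (L B p : G) ∈ nb (conjugatesOf d) d := by
  obtain ⟨v, hv⟩ := exists_pt hp
  rw [← eq_L B hp ((P_spec B v).1.trans hv) (P_spec B v).2]
  exact P_nb B v

include B in
theorem comm_A {x y : ↥(Subgroup.centralizer ({d} : Set G))} (hx : x ∈ A0 π) (hy : y ∈ A0 π) :
    Commute (x : G) (y : G) :=
  congrArg Subtype.val (B.cov.A0_comm hx hy)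

include B in
theorem cnt_pair {p q : HP} (hp : p ∈ pts) (hq : q ∈ pts) (hne : p ≠ q) : cnt B.cov (p + q) = 0 := by
  rw [(eq_rep_two (cnt B.cov) (cnt_act B.cov) hp hq hne).2, B.two]

/-- a member of the radical conjugate to `d` is `d` or one of the twenty-one -/
theorem exists_L {a : ↥(Subgroup.centralizer ({d} : Set G))} (ha : a ∈ A0 π) (hc : IsCj a) (hd : a ≠ dC d) :
    ∃ p ∈ pts, a = L B p := by
  obtain ⟨p, hp⟩ := mem_A0.mp ha
  have hp0 : p ≠ 0 := fun h0 => by
    rw [h0, uQ_zero] at hp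
    rcases (B.cov.ker_iff _).mp hp.symm with e | e
    · exact not_isCj_one B.cov (e ▸ hc)
    · exact hd e
  have hcnt := cnt_spec B.cov hp.symm
  rw [ind_pos hc, cnt_rep B.cov hp0] at hcnt
  have hcls : cls p = 1 := by
    rcases cls_range hp0 with h | h | h
    · exact h
    · rw [h, B.two] at hcnt; omega
    · rw [h, B.three] at hcnt; omega
  exact ⟨p, mem_pts_of_cls hp0 hcls, eq_L B (mem_pts_of_cls hp0 hcls) hp.symm hc⟩

/-- the Levi part permutes the twenty-one -/
theorem L_act {g : SL3} {c : ↥(Subgroup.centralizer ({d} : Set G))} (hc : π c = lQ g) {p : HP} (hp : p ∈ pts) :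
    c * L B p * c⁻¹ = L B (act g p) :=
  eq_L B (pts_act g hp) (by rw [map_mul, map_mul, map_inv, hc, (L_spec B hp).1, lQ_conj])
    ((isCj_conj c _).mpr (L_spec B hp).2)

/-- an element of the normaliser moving one of the twenty-one to `d` -/
theorem exists_move_d {p : HP} (hp : p ∈ pts) : ∃ n : G, n * L B p * n⁻¹ = d ∧
    ∀ q ∈ pts, q ≠ p → ∃ q' ∈ pts, n * (L B q : G) * n⁻¹ = L B q' := by
  obtain ⟨n, hn, hne⟩ := exists_normalizer_of_isConj B.cov (mem_AG.mpr ⟨_, L_mem B hp, rfl⟩) (L_spec B hp).2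
  refine ⟨n⁻¹, by rw [← hne]; group, fun q hq hqp => ?_⟩
  obtain ⟨b, hb, hbe⟩ := exists_conj_image (inv_mem hn) (L_mem B hq)
  have hbc : IsCj b := IsConj.trans (L_spec B hq).2 (isConj_iff.mpr ⟨n⁻¹, hbe.symm⟩)
  obtain ⟨q', hq', e⟩ := exists_L B hb hbc fun e => hqp (L_inj B hq hp (Subtype.ext (by
    rw [e] at hbe
    calc (L B q : G) = n * (n⁻¹ * L B q * n⁻¹⁻¹) * n⁻¹ := by group
      _ = L B p := by rw [← hbe]; exact hne)))
  exact ⟨q', hq', by rw [← hbe, e]⟩

/-- product over a frame of the identity -/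
noncomputable def fr (B : Base π) (i : Fin 3) : G :=
  (L B (frame i 0) : G) * ((L B (frame i 1) : G) * (L B (frame i 2) : G))

theorem fr_cases (i j : Fin 3) : fr B i = fr B j ∨ fr B i = fr B j * d := by
  set x : Fin 3 → ↥(Subgroup.centralizer ({d} : Set G)) := fun i =>
    L B (frame i 0) * (L B (frame i 1) * L B (frame i 2))
  have hπ : ∀ i, π (x i) = uQ (1, 1, 1, 0, 0, 0) := fun i => by
    rw [map_mul, map_mul, (L_spec B (frame_mem i 0)).1, (L_spec B (frame_mem i 1)).1,
      (L_spec B (frame_mem i 2)).1, ← uQ_add, ← uQ_add, ← add_assoc, frame_sum]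
  rcases B.cov.eq_or ((hπ i).trans (hπ j).symm) with e | e
  · exact Or.inl (congrArg Subtype.val e)
  · exact Or.inr (congrArg Subtype.val e)

theorem add_eq_of_lifts {s t a b c : HP} (hs : s ∈ pts) (ht : t ∈ pts) (ha : a ∈ pts) (hb : b ∈ pts)
    (hc : c ∈ pts) (e : d * ((L B s : G) * L B t) = (L B a : G) * ((L B b : G) * L B c)) :
    a + b + c = s + t := by
  have e' : dC d * (L B s * L B t) = L B a * (L B b * L B c) := Subtype.ext e
  have := congrArg π e'
  rw [map_mul, map_mul, map_mul, map_mul, B.cov.pid, one_mul, (L_spec B hs).1, (L_spec B ht).1, (L_spec B ha).1,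
    (L_spec B hb).1, (L_spec B hc).1, ← uQ_add, ← uQ_add, ← uQ_add, ← add_assoc] at this
  exact (uQ_inj this).symm

/-- the image of an equal frame under a move of a member to `d` -/
theorem frame_image {i k : Fin 3} (hik : i ≠ k) {n : G} (hn : n * L B (frame i 0) * n⁻¹ = d)
    (hmv : ∀ q ∈ pts, q ≠ frame i 0 → ∃ q' ∈ pts, n * (L B q : G) * n⁻¹ = L B q') (e : fr B i = fr B k)
    {s t : HP} (es : n * (L B (frame i 1) : G) * n⁻¹ = L B s) (et : n * (L B (frame i 2) : G) * n⁻¹ = L B t) :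
    ∃ a b c, a ∈ pts ∧ b ∈ pts ∧ c ∈ pts ∧ a ≠ b ∧ a ≠ c ∧ b ≠ c ∧
      n * (L B (frame k 0) : G) * n⁻¹ = L B a ∧ n * (L B (frame k 1) : G) * n⁻¹ = L B b ∧
      n * (L B (frame k 2) : G) * n⁻¹ = L B c ∧
      d * ((L B s : G) * L B t) = (L B a : G) * ((L B b : G) * L B c) := by
  have hne : ∀ j, frame k j ≠ frame i 0 := fun j => frame_ne _ _ _ _ (by simp [Ne.symm hik])
  obtain ⟨a, ha, ea⟩ := hmv _ (frame_mem k 0) (hne 0)
  obtain ⟨b, hb, eb⟩ := hmv _ (frame_mem k 1) (hne 1)
  obtain ⟨c, hc, ec⟩ := hmv _ (frame_mem k 2) (hne 2)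
  have inj : ∀ {j j' : Fin 3} {u : G}, n * (L B (frame k j) : G) * n⁻¹ = u →
      n * (L B (frame k j') : G) * n⁻¹ = u → j = j' := fun {j j' u} h1 h2 => by
    by_contra hj
    exact frame_ne k j k j' (by simp [hj]) (L_inj B (frame_mem k j) (frame_mem k j')
      (Subtype.ext (mul_left_cancel (mul_right_cancel (h1.trans h2.symm)))))
  refine ⟨a, b, c, ha, hb, hc, fun h => ?_, fun h => ?_, fun h => ?_, ea, eb, ec, ?_⟩
  · exact absurd (inj ea (h ▸ eb)) (by decide)
  · exact absurd (inj ea (h ▸ ec)) (by decide)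
  · exact absurd (inj eb (h ▸ ec)) (by decide)
  · have h2 := congrArg (fun x => n * x * n⁻¹) e
    simp only [fr, ← conj_mul, hn, es, et, ea, eb, ec] at h2
    exact h2

/-- not all three frames have the same product -/
theorem exists_fr_ne : ∃ i j, fr B i ≠ fr B j := by
  by_contra hall
  push Not at hall
  obtain ⟨n, hn, hmv⟩ := exists_move_d B (frame_mem 0 0)
  obtain ⟨s, hs, es⟩ := hmv _ (frame_mem 0 1) (frame_ne _ _ _ _ (by decide))
  obtain ⟨t, ht, et⟩ := hmv _ (frame_mem 0 2) (frame_ne _ _ _ _ (by decide))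
  have hst : s ≠ t := fun h => by
    subst h
    exact frame_ne 0 1 0 2 (by decide) (L_inj B (frame_mem 0 1) (frame_mem 0 2)
      (Subtype.ext (mul_left_cancel (mul_right_cancel (es.trans et.symm)))))
  obtain ⟨a, b, c, ha, hb, hc, n1, n2, n3, ea, eb, ec, e1⟩ :=
    frame_image B (i := 0) (k := 1) (by decide) hn hmv (hall 0 1) es et
  obtain ⟨a', b', c', ha', hb', hc', m1, m2, m3, ea', eb', ec', e2⟩ :=
    frame_image B (i := 0) (k := 2) (by decide) hn hmv (hall 0 2) es et
  have diff : ∀ {j j' : Fin 3} {u : HP}, n * (L B (frame 1 j) : G) * n⁻¹ = L B u →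
      ∀ {u' : HP}, n * (L B (frame 2 j') : G) * n⁻¹ = L B u' → u ≠ u' := fun {j j' u} h1 {u'} h2 e => by
    subst e
    exact frame_ne 1 j 2 j' (by simp) (L_inj B (frame_mem 1 j) (frame_mem 2 j')
      (Subtype.ext (mul_left_cancel (mul_right_cancel (h1.trans h2.symm)))))
  have hsum := add_eq_of_lifts B hs ht ha hb hc e1
  have hsum' := add_eq_of_lifts B hs ht ha' hb' hc' e2
  have hsub : ({a, b, c, a'} : Finset HP) ⊆ triples (s + t) := by
    intro x hx
    simp only [Finset.mem_insert, Finset.mem_singleton] at hx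
    rcases hx with rfl | rfl | rfl | rfl
    · exact mem_triples ha hb hc n1 n2 n3 hsum
    · exact mem_triples hb ha hc n1.symm n3 n2 (by rw [← hsum]; abel)
    · exact mem_triples hc ha hb n2.symm n3.symm n1 (by rw [← hsum]; abel)
    · exact mem_triples ha' hb' hc' m1 m2 m3 hsum'
  have h4 : ({a, b, c, a'} : Finset HP).card = 4 := by
    rw [Finset.card_insert_of_notMem (by simp [n1, n2, diff ea ea']),
      Finset.card_insert_of_notMem (by simp [n3, diff eb ea']),
      Finset.card_insert_of_notMem (by simp [diff ec ea']), Finset.card_singleton]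
  have := Finset.card_le_card hsub
  have := card_triples_le hs ht hst
  omega

/-- six of the twenty-one have product `d` -/
theorem exists_six : ∃ l : List HP, l.length = 6 ∧ (∀ p ∈ l, p ∈ pts) ∧
    (l.map fun p => (L B p : G)).prod = d := by
  obtain ⟨i, j, hij⟩ := exists_fr_ne B
  refine ⟨[frame i 0, frame i 1, frame i 2, frame j 0, frame j 1, frame j 2], rfl,
    by simp [frame_mem], ?_⟩
  have e := (fr_cases B i j).resolve_left hij
  have hsq : ∀ p, p ∈ pts → (L B p : G) * (L B p : G) = 1 :=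
    fun p hp => congrArg Subtype.val (B.cov.A0_sq (L_mem B hp))
  set x := L B (frame j 0) * (L B (frame j 1) * L B (frame j 2)) with hx
  have hfj : fr B j * fr B j = 1 :=
    congrArg Subtype.val (B.cov.A0_sq (x := x) (mul_mem (L_mem B (frame_mem j 0))
      (mul_mem (L_mem B (frame_mem j 1)) (L_mem B (frame_mem j 2)))))
  have hdf : Commute d (fr B j) := comm_d x
  calc _ = fr B i * fr B j := by simp [fr, mul_assoc]
    _ = d := by rw [e, mul_assoc, hdf.eq, ← mul_assoc, hfj, one_mul]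

/-- a pair with `d` is also a triple -/
def TwoTriples (B : Base π) (p : HP) : Prop :=
  ∃ q r a b c : HP, q ∈ pts ∧ r ∈ pts ∧ a ∈ pts ∧ b ∈ pts ∧ c ∈ pts ∧ q ≠ r ∧ q + r = p ∧ a ≠ b ∧ a ≠ c ∧ b ≠ c ∧
    d * ((L B q : G) * L B r) = (L B a : G) * ((L B b : G) * L B c)

theorem twoTriples_act (g : SL3) {p : HP} (h : TwoTriples B p) : TwoTriples B (act g p) := by
  obtain ⟨q, r, a, b, c, hq, hr, ha, hb, hc, n, e, n1, n2, n3, he⟩ := h
  obtain ⟨k, hk⟩ := B.cov.surj (lQ g)
  refine ⟨act g q, act g r, act g a, act g b, act g c, pts_act g hq, pts_act g hr, pts_act g ha, pts_act g hb,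
    pts_act g hc, fun h => n (act_inj g h), by rw [← act_add, e], fun h => n1 (act_inj g h),
    fun h => n2 (act_inj g h), fun h => n3 (act_inj g h), ?_⟩
  rw [← L_act B hk hq, ← L_act B hk hr, ← L_act B hk ha, ← L_act B hk hb, ← L_act B hk hc]
  have hkd : (k : G) * d * (k : G)⁻¹ = d := by rw [← (comm_d k).eq, mul_inv_cancel_right]
  simp only [Subgroup.coe_mul, Subgroup.coe_inv]
  nth_rewrite 1 [← hkd]
  rw [conj_mul, conj_mul, conj_mul, conj_mul, he]

theorem twoTriples_all {q r : HP} (hq : q ∈ pts) (hr : r ∈ pts) (hne : q ≠ r) : TwoTriples B (q + r) := by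
  have hN : ∀ g p, TwoTriples B (act g p) = TwoTriples B p := fun g p => propext
    ⟨fun h => by have := twoTriples_act B g⁻¹ h; rwa [← act_mul, inv_mul_cancel, act_one] at this,
      twoTriples_act B g⟩
  rw [(eq_rep_two _ hN hq hr hne).2]
  obtain ⟨i, k, hik, e⟩ : ∃ i k : Fin 3, i ≠ k ∧ fr B i = fr B k := by
    by_cases h1 : fr B 0 = fr B 1
    · exact ⟨0, 1, by decide, h1⟩
    by_cases h2 : fr B 0 = fr B 2
    · exact ⟨0, 2, by decide, h2⟩
    refine ⟨1, 2, by decide, ?_⟩
    have a1 := (fr_cases B 0 1).resolve_left h1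
    have a2 := (fr_cases B 0 2).resolve_left h2
    exact mul_right_cancel (a1.symm.trans a2)
  obtain ⟨n, hn, hmv⟩ := exists_move_d B (frame_mem i 0)
  obtain ⟨s, hs, es⟩ := hmv _ (frame_mem i 1) (frame_ne _ _ _ _ (by simp))
  obtain ⟨t, ht, et⟩ := hmv _ (frame_mem i 2) (frame_ne _ _ _ _ (by simp))
  obtain ⟨a, b, c, ha, hb, hc, n1, n2, n3, -, -, -, e1⟩ := frame_image B hik hn hmv e es et
  have hst : s ≠ t := fun h => by
    subst h
    exact frame_ne i 1 i 2 (by simp) (L_inj B (frame_mem i 1) (frame_mem i 2)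
      (Subtype.ext (mul_left_cancel (mul_right_cancel (es.trans et.symm)))))
  rw [← (eq_rep_two _ hN hs ht hst).2]
  exact ⟨s, t, a, b, c, hs, ht, ha, hb, hc, hst, rfl, n1, n2, n3, e1⟩

end Cfsg.Agent.Lib.Fi22Cent27
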