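import Mathlib
import Cfsg.Agent.Lib.Fi22Cent27.Radical

/-!
The conjugates of an involution with centraliser a double cover of `PSU(6, 2)` satisfy the setting.
-/

set_option autoImplicit false
set_option linter.unusedSectionVars false
set_option linter.style.haveILetI false
set_option synthInstance.maxSize 4000

namespace Cfsg.Agent.Lib.Fi22Cent27

open Cfsg.Agent.Lib.G24 (K4)
open Cfsg.Agent.Lib.U62J
open Cfsg.Agent.Lib.Unitary
open Matrix

local notation "h⟪" u ", " v "⟫" => Cfsg.hermForm 6 K4 2 u v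

variable {G : Type*} [Group G] [Finite G] {d : G}
variable {π : ↥(Subgroup.centralizer ({d} : Set G)) →* Q6}
variable (B : Base π)

include B in
theorem d_sq : d * d = 1 := congrArg Subtype.val B.cov.dd

include B in
theorem D_sq {x : G} (hx : x ∈ conjugatesOf d) : x * x = 1 := by
  obtain ⟨g, rfl⟩ := isConj_iff.mp (show IsConj d x from hx)
  rw [show g * d * g⁻¹ * (g * d * g⁻¹) = g * (d * d) * g⁻¹ by group, d_sq B, mul_one, mul_inv_cancel]

theorem D_conj (g : G) {x : G} (hx : x ∈ conjugatesOf d) : g * x * g⁻¹ ∈ conjugatesOf d :=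
  IsConj.trans (show IsConj d x from hx) (isConj_iff.mpr ⟨g, rfl⟩)

theorem nb_conj (g : G) {z x : G} (hx : x ∈ nb (conjugatesOf d) z) :
    g * x * g⁻¹ ∈ nb (conjugatesOf d) (g * z * g⁻¹) :=
  ⟨D_conj g hx.1, fun e => hx.2.1 (mul_left_cancel (mul_right_cancel e)), (Commute.conj_iff g).mpr hx.2.2⟩

include B in
/-- cliques of neighbours go into the radical -/
theorem clique_A (l : List G) (hl : ∀ x ∈ l, x ∈ nb (conjugatesOf d) d) (hc : ∀ x ∈ l, ∀ y ∈ l, Commute x y) :
    ∃ c : ↥(Subgroup.centralizer ({d} : Set G)), ∀ x ∈ l, ∃ p ∈ pts, (c : G) * x * (c : G)⁻¹ = L B p := by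
  have hv : ∀ x ∈ l, ∃ v, (P B v : G) = x := fun x hx => exists_P B (hl x hx)
  choose v hv using hv
  set vs : List (Fin 6 → K4) := l.attach.map fun x => (v x.1 x.2).1 with hvs
  obtain ⟨s, hs⟩ := move_list vs (by
    intro a ha b hb
    rw [hvs, List.mem_map] at ha hb
    obtain ⟨⟨x, hx⟩, -, rfl⟩ := ha
    obtain ⟨⟨y, hy⟩, -, rfl⟩ := hb
    refine (P_commute B _ _).mp (Subtype.ext ?_)
    rw [Subgroup.coe_mul, Subgroup.coe_mul, hv x hx, hv y hy]
    exact (hc x hx y hy).eq)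
  obtain ⟨c, hcs⟩ := B.cov.surj (ph s)
  refine ⟨c, fun x hx => ?_⟩
  have hin : InL (move s (v x hx)).1 := hs _ (by
    rw [hvs, List.mem_map]; exact ⟨⟨x, hx⟩, List.mem_attach _ _, rfl⟩)
  obtain ⟨p, hp⟩ := tv_InL (move s (v x hx)).2.1 hin
  have hT : π (P B (move s (v x hx))) = uQ p := (P_spec B _).1.trans (congrArg ph hp)
  obtain ⟨q, hq, e⟩ := exists_L B (a := P B (move s (v x hx))) ⟨p, hT.symm⟩ (P_spec B _).2
    fun e => P_ne_d B _ (congrArg Subtype.val e)
  refine ⟨q, hq, ?_⟩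
  rw [← hv x hx, ← e, ← P_conj B hcs]
  rfl

theorem two_d {y : G} (hy : y ∈ nb (conjugatesOf d) d) (B : Base π) : d * y ∉ conjugatesOf d := by
  intro h
  obtain ⟨v, rfl⟩ := exists_P B hy
  have h2 : IsCj (dC d * P B v) := h
  have := eq_P B (v := v) (by rw [map_mul, B.cov.pid, one_mul, (P_spec B v).1]) h2
  exact B.cov.dne (mul_eq_right.mp this)

include B in
theorem three_d {y z : G} (hy : y ∈ nb (conjugatesOf d) d) (hz : z ∈ nb (conjugatesOf d) d) (hne : y ≠ z)
    (hc : Commute y z) : d * (y * z) ∉ conjugatesOf d := by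
  intro h
  obtain ⟨c, hl⟩ := clique_A B [y, z] (by simp [hy, hz]) (by simp [hc, hc.symm])
  obtain ⟨p, hp, ep⟩ := hl y (by simp)
  obtain ⟨q, hq, eq'⟩ := hl z (by simp)
  have hpq : p ≠ q := fun e => hne (by
    subst e; exact mul_left_cancel (mul_right_cancel (ep.trans eq'.symm)))
  have hcd : (c : G) * d * (c : G)⁻¹ = d := by rw [← (comm_d c).eq, mul_inv_cancel_right]
  have h2 := D_conj (c : G) h
  rw [← conj_mul, ← conj_mul, hcd, ep, eq'] at h2
  have h3 : IsCj (L B p * L B q * dC d) := by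
    show IsConj d ((L B p : G) * L B q * d)
    rwa [← ((comm_d (L B p)).mul_right (comm_d (L B q))).eq]
  have hz := cnt_spec B.cov (z := L B p * L B q) (p := p + q)
    (by rw [map_mul, (L_spec B hp).1, (L_spec B hq).1, uQ_add])
  rw [cnt_pair B hp hq hpq, ind_pos h3] at hz
  omega

include B in
theorem pair_d {x y u w : G} (hx : x ∈ nb (conjugatesOf d) d) (hy : y ∈ nb (conjugatesOf d) d)
    (hu : u ∈ nb (conjugatesOf d) d) (hw : w ∈ nb (conjugatesOf d) d) (hne : x ≠ y) (hc : Commute x y)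
    (hne' : u ≠ w) (hc' : Commute u w) :
    (x * y = u * w → (u = x ∧ w = y) ∨ (u = y ∧ w = x)) ∧ x * y ≠ d * (u * w) := by
  obtain ⟨a, rfl⟩ := exists_P B hx
  obtain ⟨b, rfl⟩ := exists_P B hy
  obtain ⟨e, rfl⟩ := exists_P B hu
  obtain ⟨f, rfl⟩ := exists_P B hw
  have key : ∀ z, π z = 1 → P B a * P B b = z * (P B e * P B f) →
      (P B e = P B a ∧ P B f = P B b) ∨ (P B e = P B b ∧ P B f = P B a) := by
    intro z hz h
    have h1 := congrArg π h
    simp only [map_mul, hz, one_mul, (P_spec B _).1] at h1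
    rcases T_pair ((P_commute B a b).mp (Subtype.ext hc.eq)) ((P_commute B e f).mp (Subtype.ext hc'.eq))
      (fun h => hne (congrArg Subtype.val ((P_eq_iff B a b).mpr h)))
      (fun h => hne' (congrArg Subtype.val ((P_eq_iff B e f).mpr h))) h1 with ⟨h2, h3⟩ | ⟨h2, h3⟩
    · exact Or.inl ⟨(P_eq_iff B e a).mpr h2, (P_eq_iff B f b).mpr h3⟩
    · exact Or.inr ⟨(P_eq_iff B e b).mpr h2, (P_eq_iff B f a).mpr h3⟩
  refine ⟨fun h => ?_, fun h => ?_⟩
  · rcases key 1 (map_one _) (Subtype.ext (by simpa using h)) with ⟨h2, h3⟩ | ⟨h2, h3⟩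
    · exact Or.inl ⟨congrArg Subtype.val h2, congrArg Subtype.val h3⟩
    · exact Or.inr ⟨congrArg Subtype.val h2, congrArg Subtype.val h3⟩
  · have hd1 : d ≠ 1 := fun e => B.cov.dne (Subtype.ext e)
    rcases key (dC d) B.cov.pid (Subtype.ext h) with ⟨h2, h3⟩ | ⟨h2, h3⟩
    · rw [h2, h3] at h
      exact hd1 (mul_eq_right.mp h.symm)
    · rw [h2, h3, hc.symm.eq] at h
      exact hd1 (mul_eq_right.mp h.symm)

/-- a product of one, two or three commuting members, all commuting with `d` -/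
def Short (d t : G) : Prop :=
  t ∈ conjugatesOf d ∨
    (∃ x ∈ conjugatesOf d, ∃ y ∈ conjugatesOf d, x ≠ y ∧ Commute x y ∧ Commute x d ∧ Commute y d ∧ t = x * y) ∨
    ∃ x ∈ conjugatesOf d, ∃ y ∈ conjugatesOf d, ∃ w ∈ conjugatesOf d, Tri x y w ∧ Commute x d ∧ Commute y d ∧
      Commute w d ∧ t = x * (y * w)

theorem Short.conj {t g : G} (hg : g * d * g⁻¹ = d) (h : Short d t) : Short d (g * t * g⁻¹) := by
  have cd : ∀ {x : G}, Commute x d → Commute (g * x * g⁻¹) d := fun {x} hx => by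
    have := (Commute.conj_iff g).mpr hx; rwa [hg] at this
  have cc : ∀ {x y : G}, Commute x y → Commute (g * x * g⁻¹) (g * y * g⁻¹) := fun hx => (Commute.conj_iff g).mpr hx
  have ne : ∀ {x y : G}, x ≠ y → g * x * g⁻¹ ≠ g * y * g⁻¹ := fun hne e => hne (mul_left_cancel (mul_right_cancel e))
  rcases h with h | ⟨x, hx, y, hy, n, c, c1, c2, rfl⟩ | ⟨x, hx, y, hy, w, hw, ht, c1, c2, c3, rfl⟩
  · exact Or.inl (D_conj g h)
  · exact Or.inr (Or.inl ⟨_, D_conj g hx, _, D_conj g hy, ne n, cc c, cd c1, cd c2, by rw [conj_mul]⟩)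
  · exact Or.inr (Or.inr ⟨_, D_conj g hx, _, D_conj g hy, _, D_conj g hw,
      ⟨ne ht.nab, ne ht.nac, ne ht.nbc, cc ht.cab, cc ht.cac, cc ht.cbc⟩, cd c1, cd c2, cd c3,
      by rw [conj_mul, conj_mul]⟩)

include B in
theorem short_A {a : ↥(Subgroup.centralizer ({d} : Set G))} (ha : a ∈ A0 π) (h1 : a ≠ 1) : Short d (a : G) := by
  obtain ⟨p, hp⟩ := mem_A0.mp ha
  by_cases hp0 : p = 0
  · rw [hp0, uQ_zero] at hp
    rcases (B.cov.ker_iff a).mp hp.symm with e | e
    · exact absurd e h1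
    · subst e; exact Or.inl (IsConj.refl d)
  obtain ⟨g, hg⟩ := exists_act_rep hp0
  obtain ⟨c, hc⟩ := B.cov.surj (lQ g)
  -- reduce to the representative
  suffices key : ∀ b, π b = uQ (rep (cls p)) → Short d (b : G) by
    have := key (c⁻¹ * a * c) (by
      rw [map_mul, map_mul, map_inv, hc, ← hp]
      conv_lhs => rw [← hg, ← lQ_conj]
      group)
    have h2 := this.conj (g := (c : G)) (by rw [← (comm_d c).eq, mul_inv_cancel_right])
    rwa [Subgroup.coe_mul, Subgroup.coe_mul, Subgroup.coe_inv,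
      show (c : G) * ((c : G)⁻¹ * a * c) * (c : G)⁻¹ = a by group] at h2
  intro b hb
  have nbL : ∀ {q}, q ∈ pts → (L B q : G) ∈ nb (conjugatesOf d) d := fun hq => L_nb B hq
  have cL : ∀ {q r}, q ∈ pts → r ∈ pts → Commute (L B q : G) (L B r : G) := fun hq hr =>
    comm_A B (L_mem B hq) (L_mem B hr)
  have nL : ∀ {q r}, q ∈ pts → r ∈ pts → q ≠ r → (L B q : G) ≠ L B r := fun hq hr n e =>
    n (L_inj B hq hr (Subtype.ext e))
  rcases cls_range hp0 with h | h | h <;> rw [h] at hb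
  · have hr : rep 1 ∈ pts := r1_mem
    rcases B.cov.eq_or (hb.trans (L_spec B hr).1.symm) with e | e <;> subst e
    · exact Or.inl (nbL hr).1
    · exact Or.inr (Or.inl ⟨_, (nbL hr).1, d, IsConj.refl d, (nbL hr).2.1, (comm_d _).symm, (comm_d _).symm,
        Commute.refl d, rfl⟩)
  · have hp2 : p2 ∈ pts := frame_mem 0 1
    have hn : r1 ≠ p2 := by decide +kernel
    have hsum : rep 2 = r1 + p2 := by decide +kernel
    rcases B.cov.eq_or (hb.trans (show uQ (rep 2) = π (L B r1 * L B p2) by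
      rw [map_mul, (L_spec B r1_mem).1, (L_spec B hp2).1, ← uQ_add, hsum])) with e | e <;> subst e
    · exact Or.inr (Or.inl ⟨_, (nbL r1_mem).1, _, (nbL hp2).1, nL r1_mem hp2 hn, cL r1_mem hp2,
        (comm_d _).symm, (comm_d _).symm, rfl⟩)
    · exact Or.inr (Or.inr ⟨_, (nbL r1_mem).1, _, (nbL hp2).1, d, IsConj.refl d,
        ⟨nL r1_mem hp2 hn, (nbL r1_mem).2.1, (nbL hp2).2.1, cL r1_mem hp2, (comm_d _).symm, (comm_d _).symm⟩,
        (comm_d _).symm, (comm_d _).symm, Commute.refl d, by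
          show (L B r1 : G) * L B p2 * d = _
          rw [mul_assoc]⟩)
  · obtain ⟨i, j, hij⟩ := exists_fr_ne B
    have hshort : ∀ i, Short d (fr B i) := fun i => Or.inr (Or.inr ⟨_, (nbL (frame_mem i 0)).1, _,
      (nbL (frame_mem i 1)).1, _, (nbL (frame_mem i 2)).1,
      ⟨nL (frame_mem i 0) (frame_mem i 1) (frame_ne _ _ _ _ (by simp)),
       nL (frame_mem i 0) (frame_mem i 2) (frame_ne _ _ _ _ (by simp)),
       nL (frame_mem i 1) (frame_mem i 2) (frame_ne _ _ _ _ (by simp)),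
       cL (frame_mem i 0) (frame_mem i 1), cL (frame_mem i 0) (frame_mem i 2), cL (frame_mem i 1) (frame_mem i 2)⟩,
      (comm_d _).symm, (comm_d _).symm, (comm_d _).symm, rfl⟩)
    have e3 : (1, 1, 1, 0, 0, 0) = rep 3 := rfl
    rcases B.cov.eq_or (hb.trans (show uQ (rep 3) = π (L B (frame i 0) * (L B (frame i 1) * L B (frame i 2))) by
      rw [map_mul, map_mul, (L_spec B (frame_mem i 0)).1, (L_spec B (frame_mem i 1)).1,
        (L_spec B (frame_mem i 2)).1, ← uQ_add, ← uQ_add, ← add_assoc, frame_sum, e3])) with e | e <;> subst e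
    · exact hshort i
    · have e2 := (fr_cases B j i).resolve_left (Ne.symm hij)
      show Short d (fr B i * d)
      rw [← e2]
      exact hshort j

include B in
theorem classify_d {t : G} (h2 : t * t = 1) (h1 : t ≠ 1) (hc : Commute t d) : Short d t := by
  set z : ↥(Subgroup.centralizer ({d} : Set G)) := ⟨t, Subgroup.mem_centralizer_singleton_iff.mpr hc⟩
  obtain ⟨c, hcA⟩ := B.cov.exists_conj_mem (x := z) (Subtype.ext h2)
  have hs := short_A B hcA fun e => h1 (congrArg Subtype.val (conj_eq_one_iff.mp e))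
  have := hs.conj (g := ((c : G))⁻¹) (by rw [← ((comm_d c).inv_right).eq, mul_inv_cancel_right])
  simpa [mul_assoc, z] using this

include B in
theorem third_d {a : G} (ha : a ∈ nb (conjugatesOf d) d) :
    ∃ y ∈ nb (conjugatesOf d) d, y ≠ a ∧ Commute a y := by
  obtain ⟨c, hc⟩ := clique_A B [a] (by simpa using ha) (by simp)
  obtain ⟨p, hp, ep⟩ := hc a (by simp)
  obtain ⟨q, hq, hqp⟩ := Finset.exists_mem_ne (s := pts) (by rw [card_pts]; norm_num) p
  have ea : a = (c : G)⁻¹ * L B p * (c : G)⁻¹⁻¹ := by rw [← ep]; group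
  have hd : (c : G)⁻¹ * d * (c : G)⁻¹⁻¹ = d := by
    rw [← ((comm_d c).inv_right).eq, mul_inv_cancel_right]
  refine ⟨(c : G)⁻¹ * L B q * (c : G)⁻¹⁻¹, ?_, fun e => hqp ?_, ?_⟩
  · have := nb_conj (c : G)⁻¹ (L_nb B hq)
    rwa [hd] at this
  · exact L_inj B hq hp (Subtype.ext (mul_left_cancel (mul_right_cancel (e.trans ea))))
  · rw [ea]
    exact (Commute.conj_iff _).mpr (comm_A B (L_mem B hp) (L_mem B hq))

include B in
theorem six_d {a b : G} (ha : a ∈ nb (conjugatesOf d) d) (hb : b ∈ nb (conjugatesOf d) d) (hab : Commute a b) :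
    ∃ l : List G, Even l.length ∧
      (∀ x ∈ l, x ∈ nb (conjugatesOf d) d ∧ Commute a x ∧ Commute b x) ∧ l.prod = d := by
  obtain ⟨c, hc⟩ := clique_A B [a, b] (by simp [ha, hb]) (by simp [hab, hab.symm])
  obtain ⟨p, hp, ep⟩ := hc a (by simp)
  obtain ⟨q, hq, eq'⟩ := hc b (by simp)
  obtain ⟨l, hlen, hmem, hprod⟩ := exists_six B
  have hd : (c : G)⁻¹ * d * (c : G)⁻¹⁻¹ = d := by
    rw [← ((comm_d c).inv_right).eq, mul_inv_cancel_right]
  refine ⟨l.map fun r => (c : G)⁻¹ * L B r * (c : G)⁻¹⁻¹, by simp [hlen, Nat.even_iff], ?_, ?_⟩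
  · intro x hx
    obtain ⟨r, hr, rfl⟩ := List.mem_map.mp hx
    refine ⟨by have := nb_conj (c : G)⁻¹ (L_nb B (hmem r hr)); rwa [hd] at this, ?_, ?_⟩
    · rw [show a = (c : G)⁻¹ * L B p * (c : G)⁻¹⁻¹ by rw [← ep]; group]
      exact (Commute.conj_iff _).mpr (comm_A B (L_mem B hp) (L_mem B (hmem r hr)))
    · rw [show b = (c : G)⁻¹ * L B q * (c : G)⁻¹⁻¹ by rw [← eq']; group]
      exact (Commute.conj_iff _).mpr (comm_A B (L_mem B hq) (L_mem B (hmem r hr)))
  · have e := map_list_prod (MulAut.conj (c : G)⁻¹) (l.map fun r => (L B r : G))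
    rw [hprod, List.map_map, MulAut.conj_apply, hd] at e
    exact e.symm

theorem perm3 {u v w : G} (c1 : Commute u v) (c2 : Commute u w) (c3 : Commute v w) :
    u * (w * v) = u * (v * w) ∧ v * (u * w) = u * (v * w) ∧ v * (w * u) = u * (v * w) ∧
      w * (u * v) = u * (v * w) ∧ w * (v * u) = u * (v * w) := by
  have e1 : u * (w * v) = u * (v * w) := by rw [c3.eq]
  have e2 : v * (u * w) = u * (v * w) := by rw [← mul_assoc, ← c1.eq, mul_assoc]
  have e4 : w * (u * v) = u * (v * w) := by rw [← (c2.mul_left c3).eq, mul_assoc]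
  exact ⟨e1, e2, by rw [← c2.eq, e2], e4, by rw [← c1.eq, e4]⟩

/-- the product of three pairwise commuting members depends on the set only -/
theorem prod3_eq {x y z u v w : G} (hx : x = u ∨ x = v ∨ x = w) (hy : y = u ∨ y = v ∨ y = w)
    (hz : z = u ∨ z = v ∨ z = w) (n1 : x ≠ y) (n2 : x ≠ z) (n3 : y ≠ z) (c1 : Commute u v) (c2 : Commute u w)
    (c3 : Commute v w) : x * (y * z) = u * (v * w) := by
  obtain ⟨e1, e2, e3, e4, e5⟩ := perm3 c1 c2 c3
  rcases hx with rfl | rfl | rfl <;> rcases hy with rfl | rfl | rfl <;> rcases hz with rfl | rfl | rfl <;>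
    first
      | exact absurd rfl n1
      | exact absurd rfl n2
      | exact absurd rfl n3
      | rfl
      | assumption

theorem cons_comm {a : G} {l : List G} (h1 : ∀ y ∈ l, Commute a y) (h2 : ∀ x ∈ l, ∀ y ∈ l, Commute x y) :
    ∀ x ∈ a :: l, ∀ y ∈ a :: l, Commute x y := by
  intro x hx y hy
  rcases List.mem_cons.mp hx with rfl | hx' <;> rcases List.mem_cons.mp hy with rfl | hy'
  · exact Commute.refl _
  · exact h1 y hy'
  · exact (h1 x hx').symm
  · exact h2 x hx' y hy'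

set_option maxHeartbeats 1000000 in
include B in
theorem second_d {a b : G} (ha : a ∈ nb (conjugatesOf d) d) (hb : b ∈ nb (conjugatesOf d) d) (hne : a ≠ b)
    (hab : Commute a b) : ∃ u v w : G,
      u ∈ nb (conjugatesOf d) d ∧ v ∈ nb (conjugatesOf d) d ∧ w ∈ nb (conjugatesOf d) d ∧ Tri u v w ∧
      (Commute a u ∧ Commute a v ∧ Commute a w) ∧ (Commute b u ∧ Commute b v ∧ Commute b w) ∧
      u ≠ a ∧ u ≠ b ∧ d * (a * b) = u * (v * w) ∧
      ∀ x ∈ nb (conjugatesOf d) d, ∀ x₂ ∈ nb (conjugatesOf d) d, ∀ x₃ ∈ nb (conjugatesOf d) d, Tri x x₂ x₃ →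
        (Commute a x ∧ Commute a x₂ ∧ Commute a x₃) → (Commute b x ∧ Commute b x₂ ∧ Commute b x₃) →
        d * (a * b) = x * (x₂ * x₃) → x = u ∨ x = v ∨ x = w := by
  obtain ⟨va, rfl⟩ := exists_P B ha
  obtain ⟨vb, rfl⟩ := exists_P B hb
  have horth : h⟪va.1, vb.1⟫ = 0 := (P_commute B va vb).mp (Subtype.ext hab.eq)
  have hpar : ∀ k : K4, vb.1 ≠ k • va.1 := fun k e => hne (congrArg Subtype.val ((P_eq_iff' B va vb).mpr
    ⟨k, fun h0 => vb.2.2 (by rw [e, h0, zero_smul]), e⟩))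
  have hli : LinearIndependent K4 ![va.1, vb.1] := by
    rw [LinearIndependent.pair_iff' va.2.2]; exact fun k hk => hpar k hk.symm
  -- the three further points of the line
  let pt : K4 → Pt := fun k => ⟨va.1 + k • vb.1, UnitaryFour.Transvection.herm_line card_K4 va.2.1 vb.2.1 horth k,
    fun e => absurd (LinearIndependent.pair_iff.mp hli 1 k (by rwa [one_smul])).1 one_ne_zero⟩
  have inj : ∀ {k m : K4}, P B (pt k) = P B (pt m) → k = m := by
    intro k m e
    obtain ⟨a, -, ha⟩ := (P_eq_iff' B _ _).mp e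
    simp only [pt, smul_add, smul_smul] at ha
    obtain ⟨h1, h2⟩ := LinearIndependent.pair_iff.mp hli (1 - a) (m - a * k) (by
      rw [sub_smul, sub_smul, one_smul, sub_add_sub_comm, ha, sub_self])
    rw [← sub_eq_zero.mp h1, one_mul] at h2
    exact (sub_eq_zero.mp h2).symm
  have ne_b : ∀ k : K4, P B (pt k) ≠ P B vb := fun k e => by
    obtain ⟨a, -, ha⟩ := (P_eq_iff' B _ _).mp e
    simp only [pt, smul_add, smul_smul] at ha
    have := (LinearIndependent.pair_iff.mp hli a (a * k - 1) (by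
      rw [sub_smul, one_smul, ← add_sub_assoc, ← ha, sub_self])).2
    have h3 := (LinearIndependent.pair_iff.mp hli a (a * k - 1) (by
      rw [sub_smul, one_smul, ← add_sub_assoc, ← ha, sub_self])).1
    rw [h3, zero_mul, zero_sub, neg_eq_zero] at this
    exact one_ne_zero this
  have ne_a : ∀ k : K4, k ≠ 0 → P B (pt k) ≠ P B va := fun k hk e => by
    have h0 : P B va = P B (pt 0) := by rw [show pt 0 = va from Subtype.ext (by simp [pt])]
    exact hk (inj (e.trans h0))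
  have hcomm : ∀ {z : Pt}, h⟪z.1, va.1⟫ = 0 → h⟪z.1, vb.1⟫ = 0 → ∀ k, Commute (P B z : G) (P B (pt k)) :=
    fun {z} h1 h2 k => congrArg Subtype.val ((P_commute B z (pt k)).mpr (by
      show h⟪z.1, va.1 + k • vb.1⟫ = 0
      rw [herm_add_right _ _ _ card_K4, herm_smul_right, h1, h2, mul_zero, add_zero]))
  have hself : ∀ k m, Commute (P B (pt k) : G) (P B (pt m)) := fun k m =>
    hcomm (by simp [pt, herm_add_left, herm_smul_left, va.2.1, herm_eq_zero_symm card_K4 horth])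
      (by simp [pt, herm_add_left, herm_smul_left, vb.2.1, horth]) m
  have hab' : ∀ k, Commute (P B va : G) (P B (pt k)) ∧ Commute (P B vb : G) (P B (pt k)) := fun k =>
    ⟨hcomm va.2.1 horth k, hcomm (herm_eq_zero_symm card_K4 horth) vb.2.1 k⟩
  set U := (P B (pt 1) : G) with hU
  set V := (P B (pt K4.w) : G) with hV
  set W := (P B (pt K4.v) : G) with hW
  have nUV : U ≠ V := fun e => absurd (inj (Subtype.ext e)) (by decide +kernel)
  have nUW : U ≠ W := fun e => absurd (inj (Subtype.ext e)) (by decide +kernel)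
  have nVW : V ≠ W := fun e => absurd (inj (Subtype.ext e)) (by decide +kernel)
  have hUVW : Tri U V W := ⟨nUV, nUW, nVW, hself _ _, hself _ _, hself _ _⟩
  -- conjugate a clique into the radical, with the three forms below `triples`
  have toA : ∀ l : List G, (∀ x ∈ l, x ∈ nb (conjugatesOf d) d) → (∀ x ∈ l, ∀ y ∈ l, Commute x y) →
      (P B va : G) ∈ l → (P B vb : G) ∈ l → U ∈ l → V ∈ l → W ∈ l →
      ∃ (c : ↥(Subgroup.centralizer ({d} : Set G))) (q r a b e : HP), q ∈ pts ∧ r ∈ pts ∧ a ∈ pts ∧ b ∈ pts ∧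
        e ∈ pts ∧ q ≠ r ∧ a ≠ b ∧ a ≠ e ∧ b ≠ e ∧ triples (q + r) = {a, b, e} ∧
        (c : G) * (P B va : G) * (c : G)⁻¹ = L B q ∧ (c : G) * (P B vb : G) * (c : G)⁻¹ = L B r ∧
        (c : G) * U * (c : G)⁻¹ = L B a ∧ (c : G) * V * (c : G)⁻¹ = L B b ∧ (c : G) * W * (c : G)⁻¹ = L B e ∧
        ∀ x ∈ l, ∃ p ∈ pts, (c : G) * x * (c : G)⁻¹ = L B p := by
    intro l hl hlc la lb lU lV lW
    obtain ⟨c, hc⟩ := clique_A B l hl hlc
    obtain ⟨q, hq, eq'⟩ := hc _ la
    obtain ⟨r, hr, er⟩ := hc _ lb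
    obtain ⟨a, ha, ea⟩ := hc _ lU
    obtain ⟨b, hb, eb⟩ := hc _ lV
    obtain ⟨e, he, ee⟩ := hc _ lW
    have ne : ∀ {x y : G} {p p' : HP}, (c : G) * x * (c : G)⁻¹ = L B p → (c : G) * y * (c : G)⁻¹ = L B p' →
        x ≠ y → p ≠ p' := fun h1 h2 hne e => hne (mul_left_cancel (mul_right_cancel (h1.trans (by rw [e, h2]))))
    have hqr := ne eq' er hne
    have hab1 := ne ea eb nUV
    have hae := ne ea ee nUW
    have hbe := ne eb ee nVW
    have hT : T (pt 1) * (T (pt K4.w) * T (pt K4.v)) = T va * T vb := by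
      have hline := congrArg ph (UnitaryFour.Transvection.tv_line card_K4 va.2.1 vb.2.1 horth (o := K4.w)
        (by decide +kernel))
      simp only [map_mul, map_one, show K4.w + 1 = K4.v by decide +kernel] at hline
      change T vb * (T va * (T (pt 1) * (T (pt K4.w) * T (pt K4.v)))) = 1 at hline
      calc _ = T va * (T vb * (T vb * (T va * (T (pt 1) * (T (pt K4.w) * T (pt K4.v)))))) := by
            rw [← mul_assoc (T vb) (T vb), T_sq, one_mul, ← mul_assoc (T va), T_sq, one_mul]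
        _ = _ := by rw [hline, mul_one]
    have hsum : a + b + e = q + r := by
      refine uQ_inj ?_
      have key : ∀ {v : Pt} {p : HP}, p ∈ pts → (c : G) * (P B v : G) * (c : G)⁻¹ = L B p →
          π c * T v * (π c)⁻¹ = uQ p := fun {v p} hp h => by
        rw [← (P_spec B v).1, ← map_inv, ← map_mul, ← map_mul,
          show c * P B v * c⁻¹ = L B p from Subtype.ext h, (L_spec B hp).1]
      rw [uQ_add, uQ_add, uQ_add, ← key hq eq', ← key hr er, ← key ha ea, ← key hb eb, ← key he ee, conj_mul,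
        conj_mul, conj_mul, mul_assoc (T (pt 1)), hT]
    refine ⟨c, q, r, a, b, e, hq, hr, ha, hb, he, hqr, hab1, hae, hbe, ?_, eq', er, ea, eb, ee, hc⟩
    refine (Finset.eq_of_subset_of_card_le ?_ ?_).symm
    · intro x hx
      simp only [Finset.mem_insert, Finset.mem_singleton] at hx
      rcases hx with rfl | rfl | rfl
      · exact mem_triples ha hb he hab1 hae hbe hsum
      · exact mem_triples hb ha he hab1.symm hbe hae (by rw [← hsum]; abel)
      · exact mem_triples he ha hb hae.symm hbe.symm hab1 (by rw [← hsum]; abel)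
    · refine (card_triples_le hq hr hqr).trans (le_of_eq ?_)
      rw [Finset.card_insert_of_notMem (by simp [hab1, hae]), Finset.card_insert_of_notMem (by simp [hbe]),
        Finset.card_singleton]
  have hd_comm : ∀ c : ↥(Subgroup.centralizer ({d} : Set G)), (c : G) * d * (c : G)⁻¹ = d := fun c => by
    rw [← (comm_d c).eq, mul_inv_cancel_right]
  refine ⟨U, V, W, P_nb B _, P_nb B _, P_nb B _, hUVW, ⟨(hab' 1).1, (hab' _).1, (hab' _).1⟩,
    ⟨(hab' 1).2, (hab' _).2, (hab' _).2⟩, fun e => ne_a 1 one_ne_zero (Subtype.ext e),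
    fun e => ne_b 1 (Subtype.ext e), ?_, ?_⟩
  · -- the product
    obtain ⟨c, q, r, a, b, e, hq, hr, ha, hb, he, hqr, n1, n2, n3, hset, eq', er, ea, eb, ee, -⟩ :=
      toA [(P B va : G), (P B vb : G), U, V, W]
        (by simp [hU, hV, hW, P_nb B])
        (cons_comm (by simp [hab, hU, hV, hW, (hab' 1).1, (hab' K4.w).1, (hab' K4.v).1])
          (cons_comm (by simp [hU, hV, hW, (hab' 1).2, (hab' K4.w).2, (hab' K4.v).2])
            (cons_comm (by simp [hU, hV, hW, hself]) (cons_comm (by simp [hV, hW, hself]) (by simp)))))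
        (by simp) (by simp) (by simp) (by simp) (by simp)
    obtain ⟨q', r', a', b', e', hq', hr', ha', hb', he', hqr', hsum, m1, m2, m3, hprod⟩ := twoTriples_all B hq hr hqr
    have hin : ∀ {x}, x ∈ triples (q + r) → x = a ∨ x = b ∨ x = e := fun hx => by
      rw [hset] at hx; simpa using hx
    have hs := add_eq_of_lifts B hq' hr' ha' hb' he' hprod
    rw [hsum] at hs
    have i1 := hin (mem_triples ha' hb' he' m1 m2 m3 hs)
    have i2 := hin (mem_triples hb' ha' he' m1.symm m3 m2 (by rw [← hs]; abel))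
    have i3 := hin (mem_triples he' ha' hb' m2.symm m3.symm m1 (by rw [← hs]; abel))
    have hqr2 : (L B q' : G) * L B r' = L B q * L B r := by
      have cA := fun {x y} (hx : x ∈ pts) (hy : y ∈ pts) => comm_A B (L_mem B hx) (L_mem B hy)
      have horth' : ∀ {x y : HP}, x ∈ pts → y ∈ pts → ∀ {vx vy : Pt}, T vx = uQ x → T vy = uQ y →
          h⟪vx.1, vy.1⟫ = 0 := fun hx hy vx vy e1 e2 => (T_commute vx vy).mp (by
        rw [e1, e2]
        show _ * _ = _ * _
        rw [← uQ_add, ← uQ_add, add_comm])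
      obtain ⟨x, hx⟩ := exists_pt hq
      obtain ⟨y, hy⟩ := exists_pt hr
      obtain ⟨x', hx'⟩ := exists_pt hq'
      obtain ⟨y', hy'⟩ := exists_pt hr'
      rcases T_pair (horth' hq hr hx hy) (horth' hq' hr' hx' hy') (by rw [hx, hy]; exact fun h => hqr (uQ_inj h))
        (by rw [hx', hy']; exact fun h => hqr' (uQ_inj h))
        (by rw [hx, hy, hx', hy', ← uQ_add, ← uQ_add, hsum]) with ⟨h1, h2⟩ | ⟨h1, h2⟩
      · rw [hx', hx] at h1; rw [hy', hy] at h2; rw [uQ_inj h1, uQ_inj h2]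
      · rw [hx', hy] at h1; rw [hy', hx] at h2; rw [uQ_inj h1, uQ_inj h2]; exact (cA hr hq).eq
    have lift : ∀ {x : HP}, x = a ∨ x = b ∨ x = e →
        (L B x : G) = L B a ∨ (L B x : G) = L B b ∨ (L B x : G) = L B e := fun h => by
      rcases h with rfl | rfl | rfl
      exacts [Or.inl rfl, Or.inr (Or.inl rfl), Or.inr (Or.inr rfl)]
    have nLf : ∀ {x y : HP}, x ∈ pts → y ∈ pts → x ≠ y → (L B x : G) ≠ L B y := fun hx hy n h =>
      n (L_inj B hx hy (Subtype.ext h))
    have hp3 := prod3_eq (lift i1) (lift i2) (lift i3) (nLf ha' hb' m1) (nLf ha' he' m2) (nLf hb' he' m3)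
      (comm_A B (L_mem B ha) (L_mem B hb)) (comm_A B (L_mem B ha) (L_mem B he)) (comm_A B (L_mem B hb) (L_mem B he))
    rw [← hprod, hqr2] at hp3
    refine mul_left_cancel (a := (c : G)) (mul_right_cancel (b := (c : G)⁻¹) ?_)
    rw [← conj_mul, ← conj_mul, ← conj_mul, ← conj_mul, hd_comm c, eq', er, ea, eb, ee]
    exact hp3
  · intro x hx x₂ hx₂ x₃ hx₃ hT hca hcb hprod
    have hcU : ∀ {z : G}, z ∈ nb (conjugatesOf d) d → Commute (P B va : G) z → Commute (P B vb : G) z →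
        ∀ k, Commute z (P B (pt k) : G) := fun {z} hz c1 c2 k => by
      obtain ⟨vz, rfl⟩ := exists_P B hz
      exact hcomm ((P_commute B vz va).mp (Subtype.ext c1.symm.eq)) ((P_commute B vz vb).mp (Subtype.ext c2.symm.eq)) k
    obtain ⟨c, q, r, a, b, e, hq, hr, ha, hb, he, hqr, n1, n2, n3, hset, eq', er, ea, eb, ee, hall⟩ :=
      toA [(P B va : G), (P B vb : G), U, V, W, x, x₂, x₃]
        (by simp [hU, hV, hW, P_nb B, hx, hx₂, hx₃])
        (cons_comm (by simp [hab, hU, hV, hW, (hab' 1).1, (hab' K4.w).1, (hab' K4.v).1, hca.1, hca.2.1, hca.2.2])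
          (cons_comm (by simp [hU, hV, hW, (hab' 1).2, (hab' K4.w).2, (hab' K4.v).2, hcb.1, hcb.2.1, hcb.2.2])
            (cons_comm (by simp [hU, hV, hW, hself, (hcU hx hca.1 hcb.1 1).symm,
                (hcU hx₂ hca.2.1 hcb.2.1 1).symm, (hcU hx₃ hca.2.2 hcb.2.2 1).symm])
              (cons_comm (by simp [hV, hW, hself, (hcU hx hca.1 hcb.1 K4.w).symm,
                  (hcU hx₂ hca.2.1 hcb.2.1 K4.w).symm, (hcU hx₃ hca.2.2 hcb.2.2 K4.w).symm])
                (cons_comm (by simp [hW, (hcU hx hca.1 hcb.1 K4.v).symm, (hcU hx₂ hca.2.1 hcb.2.1 K4.v).symm,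
                    (hcU hx₃ hca.2.2 hcb.2.2 K4.v).symm])
                  (cons_comm (by simp [hT.cab, hT.cac]) (cons_comm (by simp [hT.cbc]) (by simp))))))))
        (by simp) (by simp) (by simp) (by simp) (by simp)
    obtain ⟨p, hp, ep⟩ := hall x (by simp)
    obtain ⟨p', hp', ep'⟩ := hall x₂ (by simp)
    obtain ⟨p'', hp'', ep''⟩ := hall x₃ (by simp)
    have ne : ∀ {x y : G} {s t : HP}, (c : G) * x * (c : G)⁻¹ = L B s → (c : G) * y * (c : G)⁻¹ = L B t →
        x ≠ y → s ≠ t := fun h1 h2 hne e => hne (mul_left_cancel (mul_right_cancel (h1.trans (by rw [e, h2]))))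
    have he' : d * ((L B q : G) * L B r) = (L B p : G) * ((L B p' : G) * L B p'') := by
      have h2 := congrArg (fun z => (c : G) * z * (c : G)⁻¹) hprod
      simp only [← conj_mul, hd_comm c, eq', er, ep, ep', ep''] at h2
      exact h2
    have hs := add_eq_of_lifts B hq hr hp hp' hp'' he'
    have hin := mem_triples hp hp' hp'' (ne ep ep' hT.nab) (ne ep ep'' hT.nac) (ne ep' ep'' hT.nbc) hs
    rw [hset] at hin
    simp only [Finset.mem_insert, Finset.mem_singleton] at hin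
    rcases hin with h | h | h
    · exact Or.inl (mul_left_cancel (mul_right_cancel (ep.trans (by rw [h, ea]))))
    · exact Or.inr (Or.inl (mul_left_cancel (mul_right_cancel (ep.trans (by rw [h, eb])))))
    · exact Or.inr (Or.inr (mul_left_cancel (mul_right_cancel (ep.trans (by rw [h, ee])))))

/-- `y` after moving `z` to `d` -/
theorem pull {g z y : G} (hg : g * d * g⁻¹ = z) (hy : y ∈ nb (conjugatesOf d) z) :
    g⁻¹ * y * g⁻¹⁻¹ ∈ nb (conjugatesOf d) d := by
  have := nb_conj g⁻¹ hy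
  rwa [← hg, show g⁻¹ * (g * d * g⁻¹) * g⁻¹⁻¹ = d by group] at this

include B in
/-- the setting -/
theorem loc : Loc (conjugatesOf d) := by
  have cc : ∀ (g : G) {x y : G}, Commute x y → Commute (g * x * g⁻¹) (g * y * g⁻¹) :=
    fun g {x y} h => (Commute.conj_iff g).mpr h
  have ne : ∀ (g : G) {x y : G}, x ≠ y → g * x * g⁻¹ ≠ g * y * g⁻¹ :=
    fun g {x y} h e => h (mul_left_cancel (mul_right_cancel e))
  have back : ∀ (g x : G), g * (g⁻¹ * x * g⁻¹⁻¹) * g⁻¹ = x := fun g x => by group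
  refine ⟨fun g x hx => D_conj g hx, fun x hx => D_sq B hx, fun h => ?_, ?_, ?_, ?_, ?_, ?_, ?_, ?_⟩
  · obtain ⟨g, hg⟩ := isConj_iff.mp (show IsConj d 1 from h)
    exact B.cov.dne (Subtype.ext (conj_eq_one_iff.mp hg))
  · intro x hx y hy hne hc h
    obtain ⟨g, hg⟩ := isConj_iff.mp (show IsConj d x from hx)
    have hy' := pull hg (⟨hy, hne.symm, hc⟩ : y ∈ nb (conjugatesOf d) x)
    refine two_d hy' B ?_
    have h2 := D_conj g⁻¹ h
    rwa [← conj_mul, ← hg, show g⁻¹ * (g * d * g⁻¹) * g⁻¹⁻¹ = d by group] at h2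
  · intro x hx y hy z hz ht h
    obtain ⟨g, hg⟩ := isConj_iff.mp (show IsConj d x from hx)
    have hy' := pull hg (⟨hy, ht.nab.symm, ht.cab⟩ : y ∈ nb (conjugatesOf d) x)
    have hz' := pull hg (⟨hz, ht.nac.symm, ht.cac⟩ : z ∈ nb (conjugatesOf d) x)
    refine three_d B hy' hz' (ne _ ht.nbc) (cc _ ht.cbc) ?_
    have h2 := D_conj g⁻¹ h
    rwa [← conj_mul, ← conj_mul, ← hg, show g⁻¹ * (g * d * g⁻¹) * g⁻¹⁻¹ = d by group] at h2
  · intro z hz x hx y hy u hu w hw hne hc hne' hc'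
    obtain ⟨g, hg⟩ := isConj_iff.mp (show IsConj d z from hz)
    obtain ⟨h1, h2⟩ := pair_d B (pull hg hx) (pull hg hy) (pull hg hu) (pull hg hw) (ne _ hne) (cc _ hc)
      (ne _ hne') (cc _ hc')
    refine ⟨fun e => ?_, fun e => h2 ?_⟩
    · rcases h1 (by rw [conj_mul, conj_mul, e]) with ⟨a, b⟩ | ⟨a, b⟩
      · exact Or.inl ⟨mul_left_cancel (mul_right_cancel a), mul_left_cancel (mul_right_cancel b)⟩
      · exact Or.inr ⟨mul_left_cancel (mul_right_cancel a), mul_left_cancel (mul_right_cancel b)⟩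
    · rw [conj_mul, e, ← hg]
      group
  · intro z hz t ht2 ht1 htz
    obtain ⟨g, hg⟩ := isConj_iff.mp (show IsConj d z from hz)
    have h := classify_d B (t := g⁻¹ * t * g⁻¹⁻¹) (by rw [conj_mul, ht2, mul_one, mul_inv_cancel])
      (fun e => ht1 (conj_eq_one_iff.mp e))
      (by have := cc g⁻¹ htz; rwa [← hg, show g⁻¹ * (g * d * g⁻¹) * g⁻¹⁻¹ = d by group] at this)
    have cz : ∀ {x : G}, Commute x d → Commute (g * x * g⁻¹) z := fun {x} hx => hg ▸ cc g hx
    rcases h with h | ⟨x, hx, y, hy, n, c, c1, c2, e⟩ | ⟨x, hx, y, hy, w, hw, hT, c1, c2, c3, e⟩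
    · exact Or.inl (back g t ▸ D_conj g h)
    · exact Or.inr (Or.inl ⟨_, D_conj g hx, _, D_conj g hy, ne g n, cc g c, cz c1, cz c2,
        by rw [conj_mul, ← e, back]⟩)
    · exact Or.inr (Or.inr ⟨_, D_conj g hx, _, D_conj g hy, _, D_conj g hw,
        ⟨ne g hT.nab, ne g hT.nac, ne g hT.nbc, cc g hT.cab, cc g hT.cac, cc g hT.cbc⟩, cz c1, cz c2, cz c3,
        by rw [conj_mul, conj_mul, ← e, back]⟩)
  · intro z hz a ha
    obtain ⟨g, hg⟩ := isConj_iff.mp (show IsConj d z from hz)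
    obtain ⟨y, hy, hne, hc⟩ := third_d B (pull hg ha)
    exact ⟨g * y * g⁻¹, hg ▸ nb_conj g hy, fun e => hne (by rw [← e]; group), back g a ▸ cc g hc⟩
  · intro z hz a ha b hb hab
    obtain ⟨g, hg⟩ := isConj_iff.mp (show IsConj d z from hz)
    obtain ⟨l, hl, hm, hp⟩ := six_d B (pull hg ha) (pull hg hb) (cc _ hab)
    refine ⟨l.map (MulAut.conj g), by simpa using hl, fun x hx => ?_, ?_⟩
    · obtain ⟨x', hx', rfl⟩ := List.mem_map.mp hx
      obtain ⟨h1, h2, h3⟩ := hm x' hx'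
      exact ⟨hg ▸ nb_conj g h1, back g a ▸ cc g h2, back g b ▸ cc g h3⟩
    · rw [← map_list_prod, hp, MulAut.conj_apply, hg]
  · intro z hz a ha b hb hne hab
    obtain ⟨g, hg⟩ := isConj_iff.mp (show IsConj d z from hz)
    obtain ⟨u, v, w, hu, hv, hw, hT, ⟨a1, a2, a3⟩, ⟨b1, b2, b3⟩, hua, hub, hprod, huniq⟩ :=
      second_d B (pull hg ha) (pull hg hb) (ne _ hne) (cc _ hab)
    refine ⟨g * u * g⁻¹, g * v * g⁻¹, g * w * g⁻¹, hg ▸ nb_conj g hu, hg ▸ nb_conj g hv, hg ▸ nb_conj g hw,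
      ⟨ne g hT.nab, ne g hT.nac, ne g hT.nbc, cc g hT.cab, cc g hT.cac, cc g hT.cbc⟩,
      ⟨back g a ▸ cc g a1, back g a ▸ cc g a2, back g a ▸ cc g a3⟩,
      ⟨back g b ▸ cc g b1, back g b ▸ cc g b2, back g b ▸ cc g b3⟩,
      fun e => hua (by rw [← e]; group), fun e => hub (by rw [← e]; group), ?_, ?_⟩
    · rw [conj_mul, conj_mul, ← hprod, ← hg]
      group
    · intro x hx x₂ hx₂ x₃ hx₃ hT' hca hcb he
      have := huniq _ (pull hg hx) _ (pull hg hx₂) _ (pull hg hx₃)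
        ⟨ne _ hT'.nab, ne _ hT'.nac, ne _ hT'.nbc, cc _ hT'.cab, cc _ hT'.cac, cc _ hT'.cbc⟩
        ⟨cc _ hca.1, cc _ hca.2.1, cc _ hca.2.2⟩ ⟨cc _ hcb.1, cc _ hcb.2.1, cc _ hcb.2.2⟩
        (by rw [conj_mul, conj_mul, conj_mul, ← he, ← hg]; group)
      rcases this with h | h | h
      · exact Or.inl (by rw [← back g x, h])
      · exact Or.inr (Or.inl (by rw [← back g x, h]))
      · exact Or.inr (Or.inr (by rw [← back g x, h]))

end Cfsg.Agent.Lib.Fi22Cent27
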