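import Mathlib
import Cfsg.Agent.Lib.Fi22Cent27.Local
import Cfsg.Agent.Lib.Fi22Core20.Chart
import Cfsg.Agent.Lib.Components.Basic

/-!
The chart of the neighbours by isotropic points, and the kernel of their centraliser.
-/

set_option autoImplicit false
set_option linter.unusedSectionVars false
set_option linter.style.haveILetI false
set_option synthInstance.maxSize 4000

namespace Cfsg.Agent.Lib.Fi22Cent27

open Cfsg.Agent.Lib.G24 (K4)
open Cfsg.Agent.Lib.U62J
open Cfsg.Agent.Lib.Unitary
open Cfsg.Agent.Lib.FischerUniq91.Checks (J1)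
open Cfsg.Agent.Lib.FischerUniq91.Coord (V)
open Cfsg.Agent.Lib.Fi22Core20 (Iso1 tr tr_eq)

local notation "h⟪" u ", " v "⟫" => Cfsg.hermForm 6 K4 2 u v

/-- change to the standard form -/
def emb (v : V) : Fin 6 → K4 := ![v 1, v 2, v 3, v 4, v 0 + K4.w * v 5, v 0 + K4.v * v 5]

theorem key_emb : ∀ a b c e : K4,
    (a + K4.w * b) * ((c + K4.w * e) * (c + K4.w * e)) + (a + K4.v * b) * ((c + K4.v * e) * (c + K4.v * e)) =
      a * (e * e) + b * (c * c) := by
  decide +kernel

theorem herm_emb (v u : V) : h⟪emb v, emb u⟫ = J1 v u := by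
  have h := key_emb (v 0) (v 5) (u 0) (u 5)
  simp only [Cfsg.hermForm, J1, Fin.sum_univ_six, emb, pow_two, Matrix.cons_val]
  linear_combination h

theorem emb_add (v u : V) : emb (v + u) = emb v + emb u := by
  funext i
  fin_cases i <;> simp [emb, mul_add] <;> abel

theorem emb_smul (c : K4) (v : V) : emb (c • v) = c • emb v := by
  funext i
  fin_cases i <;> simp [emb, mul_add, mul_left_comm]

theorem key_inj : ∀ a b : K4, a + K4.w * b = 0 → a + K4.v * b = 0 → a = 0 ∧ b = 0 := by decide +kernel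

theorem emb_zero {v : V} (h : emb v = 0) : v = 0 := by
  have e := fun i => congrFun h i
  obtain ⟨h0, h5⟩ := key_inj (v 0) (v 5) (e 4) (e 5)
  funext i
  fin_cases i
  exacts [h0, e 0, e 1, e 2, e 3, h5]

theorem emb_inj {v u : V} (h : emb v = emb u) : v = u := by
  have h2 : emb (v - u) = 0 := by
    have := emb_add (v - u) u
    rw [sub_add_cancel, h] at this
    exact right_eq_add.mp this
  exact sub_eq_zero.mp (emb_zero h2)

theorem key_surj : ∀ x y : K4, x + K4.w * (x + y) + K4.w * (x + y) = x ∧ x + K4.w * (x + y) + K4.v * (x + y) = y := by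
  decide +kernel

theorem emb_surj (x : Fin 6 → K4) : ∃ v, emb v = x := by
  obtain ⟨h1, h2⟩ := key_surj (x 4) (x 5)
  refine ⟨![x 4 + K4.w * (x 4 + x 5), x 0, x 1, x 2, x 3, x 4 + x 5], ?_⟩
  funext i
  fin_cases i <;> simp [emb, h1, h2]

/-- a point from coordinates -/
def toPt (v : V) (h : Iso1 v) : Pt := ⟨emb v, by rw [herm_emb]; exact h.1, fun e => h.2 (emb_zero e)⟩

theorem fix_root : ∀ a c : K4, act (ut a 0 c) p2 = p2 → act (ut a 0 c) p3 = p3 → a = 0 ∧ c = 0 := by decide +kernel

theorem rep_moved : act (gens 1) (rep 1) ≠ rep 1 ∨ act (gens 4) (rep 1) ≠ rep 1 := by decide +kernel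

theorem reps_moved : ∀ k : Fin 3, ∃ i : Fin 5, act (gens (i.val + 1)) (rep (k.val + 1)) ≠ rep (k.val + 1) := by
  decide +kernel

variable {G : Type*} [Group G] [Finite G] {d : G}
variable {π : ↥(Subgroup.centralizer ({d} : Set G)) →* Q6}
variable (B : Base π)

open Classical in
/-- the indexed neighbours -/
noncomputable def chartP (B : Base π) (v : V) : G := if h : Iso1 v then (P B (toPt v h) : G) else 1

theorem chartP_eq {v : V} (h : Iso1 v) : chartP B v = (P B (toPt v h) : G) := dif_pos h

/-- the chart at `d` -/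
noncomputable def chart : Fi22Core20.Chart (conjugatesOf d) d where
  P := chartP B
  mem v hv := by rw [chartP_eq B hv]; exact P_nb B _
  surj y hy := by
    obtain ⟨p, hp⟩ := exists_P B (hy : y ∈ nb (conjugatesOf d) d)
    obtain ⟨v, hv⟩ := emb_surj p.1
    have hi : Iso1 v := ⟨by rw [← herm_emb, hv]; exact p.2.1, fun e => p.2.2 (by
      rw [← hv, e]; funext i; fin_cases i <;> simp [emb])⟩
    exact ⟨v, hi, by rw [chartP_eq B hi, show toPt v hi = p from Subtype.ext hv, hp]⟩
  eq v w hv hw := by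
    rw [chartP_eq B hv, chartP_eq B hw, Subtype.coe_inj, P_eq_iff']
    refine exists_congr fun c => and_congr_right fun _ => ?_
    show emb w = c • emb v ↔ _
    rw [← emb_smul]
    exact ⟨emb_inj, congrArg emb⟩
  comm v w hv hw := by
    rw [chartP_eq B hv, chartP_eq B hw]
    refine Iff.trans (?_ : _ ↔ Commute (P B (toPt v hv)) (P B (toPt w hw))) ((P_commute B _ _).trans ?_)
    · exact ⟨fun h => Subtype.ext h.eq, fun h => congrArg Subtype.val h.eq⟩
    show h⟪emb v, emb w⟫ = 0 ↔ _
    rw [herm_emb]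
  conj v w hv hw := by
    obtain ⟨u, hu, hP⟩ := P_formula B (toPt v hv) (toPt w hw)
    have hue : emb (tr v w) = u.1 := by
      rw [hu, tr_eq, emb_add, emb_smul]
      show _ = emb w + h⟪emb w, emb v⟫ • emb v
      rw [herm_emb]
    have hi : Iso1 (tr v w) := ⟨by rw [← herm_emb, hue]; exact u.2.1, fun e => u.2.2 (by
      rw [← hue, e]; funext i; fin_cases i <;> simp [emb])⟩
    rw [chartP_eq B hv, chartP_eq B hw, chartP_eq B hi,
      show toPt (tr v w) hi = u from Subtype.ext hue, ← hP]
    rfl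

include B in
theorem centre_eq {g : ↥(Subgroup.centralizer ({d} : Set G))} (hg : ∀ y, g * y = y * g) :
    g = 1 ∨ g = dC d := by
  have hfix : ∀ a ∈ A0 π, g * a * g⁻¹ = a := fun a _ => by rw [hg, mul_inv_cancel_right]
  obtain ⟨p0, k, hk⟩ := exists_rel (fun a ha => by rw [hfix a ha]; exact ha) B.cov.surj
  have hact : ∀ p, act k p = p := fun p => uQ_inj (by
    obtain ⟨a, ha⟩ := B.cov.surj (uQ p)
    rw [← conj_of_rel hk p, ← ha, ← map_mul, ← map_inv, ← map_mul, hfix a ⟨p, ha.symm⟩])
  obtain ⟨μ, a, c, hμ, hkm⟩ := exists_root_of_fix_top (hact r1) fun i => by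
    have h0 : dAct k (topB i) = 0 := by rw [dAct, hact, hp_add_self]
    rw [h0]; exact low_zero
  have hac := fix_root a c (by rw [← act_smul_eq hμ hkm]; exact hact _) (by rw [← act_smul_eq hμ hkm]; exact hact _)
  have hlk : lQ k = 1 := by
    rw [lQ_eq_of_scalar hμ hkm, hac.1, hac.2, ut_zero, map_one]
  rw [hlk, mul_one] at hk
  refine (B.cov.ker_iff g).mp ?_
  rw [hk]
  by_cases h0 : p0 = 0
  · rw [h0, uQ_zero]
  exfalso
  have hfix' : ∀ m, act m p0 = p0 := fun m => uQ_inj (by
    obtain ⟨y, hy⟩ := B.cov.surj (lQ m)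
    rw [← lQ_conj, ← hk, ← hy, ← map_mul, ← map_inv, ← map_mul, ← hg y, mul_inv_cancel_right])
  obtain ⟨m, hm⟩ := exists_act_rep h0
  obtain ⟨i, hi⟩ := reps_moved ⟨cls p0 - 1, by rcases cls_range h0 with h | h | h <;> omega⟩
  refine hi ?_
  rw [show cls p0 - 1 + 1 = cls p0 by rcases cls_range h0 with h | h | h <;> omega]
  refine act_inj m ?_
  calc act m (act (gens (i.val + 1)) (rep (cls p0))) = act (m * gens (i.val + 1) * m⁻¹) (act m (rep (cls p0))) := by
        rw [← act_mul, ← act_mul, inv_mul_cancel_right]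
    _ = p0 := by rw [hm, hfix']
    _ = act m (rep (cls p0)) := hm.symm

include B in
/-- the lifts generate the centraliser -/
theorem closure_P (hq : Cfsg.IsQuasisimple ↥(Subgroup.centralizer ({d} : Set G))) :
    Subgroup.closure (Set.range (P B)) = ⊤ := by
  have hn : (Subgroup.closure (Set.range (P B))).Normal := by
    refine ⟨fun n hn c => ?_⟩
    obtain ⟨s, hs⟩ := ph_surjective (π c)
    have h := Subgroup.mem_map_of_mem (MulAut.conj c).toMonoidHom hn
    rw [MonoidHom.map_closure] at h
    refine Subgroup.closure_mono ?_ h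
    rintro _ ⟨_, ⟨v, rfl⟩, rfl⟩
    exact ⟨move s v, (P_conj B hs.symm v).symm⟩
  refine (Components.Quasisimple.normal_le_center_or_eq_top hq hn).resolve_left fun hle => ?_
  obtain ⟨f, hf⟩ := exists_hyp card_K4 e0.2.2 e0.2.1
  have hf0 : f ≠ 0 := fun e => by
    have := hf.2.2; rw [e, herm_zero_right _ card_K4] at this; exact zero_ne_one this
  let pf : Pt := ⟨f, hf.2.1, hf0⟩
  have hc : Commute (P B e0) (P B pf) :=
    (Subgroup.mem_center_iff.mp (hle (Subgroup.subset_closure ⟨e0, rfl⟩)) _).symm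
  have := (P_commute B e0 pf).mp hc
  rw [hf.2.2] at this
  exact one_ne_zero this

include B in
theorem kernel (hq : Cfsg.IsQuasisimple ↥(Subgroup.centralizer ({d} : Set G))) {g : G} (hgd : Commute g d)
    (h : ∀ x ∈ nb (conjugatesOf d) d, Commute g x) : g = 1 ∨ g = d := by
  set z : ↥(Subgroup.centralizer ({d} : Set G)) := ⟨g, Subgroup.mem_centralizer_singleton_iff.mpr hgd⟩
  have hz : ∀ y, z * y = y * z := by
    have hle : Subgroup.closure (Set.range (P B)) ≤ Subgroup.centralizer {z} := by
      rw [Subgroup.closure_le]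
      rintro _ ⟨v, rfl⟩
      exact Subgroup.mem_centralizer_singleton_iff.mpr (Subtype.ext (h _ (P_nb B v)).symm.eq)
    rw [closure_P B hq] at hle
    exact fun y => (Subgroup.mem_centralizer_singleton_iff.mp (hle (Subgroup.mem_top y))).symm
  rcases centre_eq B hz with e | e
  · exact Or.inl (congrArg Subtype.val e)
  · exact Or.inr (congrArg Subtype.val e)

include B in
/-- the setting of the recognition -/
noncomputable def host (hq : Cfsg.IsQuasisimple ↥(Subgroup.centralizer ({d} : Set G))) :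
    Fi22Core20.Host (conjugatesOf d) d where
  mem := mem_conjugatesOf_self
  order x hx := orderOf_eq_prime (by rw [pow_two]; exact D_sq B hx) fun e => (loc B).one_notMem (e ▸ hx)
  conjD g x hx := D_conj g hx
  trans x hx := isConj_iff.mp (show IsConj d x from hx)
  chart := chart B

include B in
/-- only `1` and `d` centralise `d` and its neighbours -/
theorem kernel_host (hq : Cfsg.IsQuasisimple ↥(Subgroup.centralizer ({d} : Set G))) :
    Fi22Core20.Kernel (conjugatesOf d) d :=
  fun _ h1 h2 => kernel B hq h1 fun x hx => h2 x hx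

end Cfsg.Agent.Lib.Fi22Cent27
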