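import Mathlib
import Cfsg.Agent.Lib.Fi22Cent27.Host
import Cfsg.Agent.Lib.Fi22Cent27.Component
import Cfsg.Agent.Lib.FischerMTypes.InvolutionsM22
import Cfsg.Agent.Lib.FischerExist27.Transport
import Cfsg.Prelude.Def_SporadicB
import Cfsg.Prelude.Def_Spor_Fi22

/-!
A recognised component is the whole class, and its closure the whole group.
-/

set_option autoImplicit false
set_option linter.unusedSectionVars false
set_option linter.style.haveILetI false

namespace Cfsg.Agent.Lib.Fi22Cent27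

open Cfsg.Agent.Lib.U62J
open Cfsg.Agent.Lib.FischerMTypes.TraceCounts (Sys exists_sys)

variable {G : Type*} [Group G] [Finite G]

/-- what recognition says about the component `Ω` of `d` -/
structure Recognised (D : Set G) (d : G) (Ω : Set G) : Prop where
  mem : d ∈ Ω
  sub : Ω ⊆ D
  rel : ∀ y ∈ Ω, Rel D d y
  closed : ∀ x ∈ Ω, ∀ y ∈ D, Commute x y → y ∈ Ω
  trg : Cfsg.IsThreeTranspositionGroup {x : ↥(Subgroup.closure Ω) | (x : G) ∈ Ω}
  prim : Cfsg.IsPrimitiveUnderConj {x : ↥(Subgroup.closure Ω) | (x : G) ∈ Ω}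
  type22 : Cfsg.IsOfTypeM22 ↥(Subgroup.closure Ω) {x : ↥(Subgroup.closure Ω) | (x : G) ∈ Ω}
  iso : Nonempty (↥(Subgroup.closure Ω) ≃* Cfsg.Spor.Fi22)

variable {d : G} {π : ↥(Subgroup.centralizer ({d} : Set G)) →* Q6} (B : Base π) {Ω : Set G}

theorem Recognised.of_rel {D : Set G} (R : Recognised D d Ω) {y : G} (hy : Rel D d y) : y ∈ Ω := by
  induction hy with
  | refl => exact R.mem
  | tail _ h2 ih => exact R.closed _ ih _ h2.2.1 h2.2.2

include B in
theorem centralizer_le (hq : Cfsg.IsQuasisimple ↥(Subgroup.centralizer ({d} : Set G)))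
    (R : Recognised (conjugatesOf d) d Ω) : Subgroup.centralizer ({d} : Set G) ≤ Subgroup.closure Ω := by
  intro g hg
  have h : (⟨g, hg⟩ : ↥(Subgroup.centralizer ({d} : Set G))) ∈ Subgroup.closure (Set.range (P B)) := by
    rw [closure_P B hq]; exact Subgroup.mem_top _
  have h2 := Subgroup.mem_map_of_mem (Subgroup.centralizer ({d} : Set G)).subtype h
  rw [MonoidHom.map_closure] at h2
  refine Subgroup.closure_mono ?_ h2
  rintro _ ⟨_, ⟨v, rfl⟩, rfl⟩
  exact R.closed d R.mem _ (P_mem B v) (comm_d _)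

include B in
theorem mem_closure_of_st (hq : Cfsg.IsQuasisimple ↥(Subgroup.centralizer ({d} : Set G)))
    (R : Recognised (conjugatesOf d) d Ω) {g : G} (hg : g * d * g⁻¹ ∈ Ω) : g ∈ Subgroup.closure Ω := by
  obtain ⟨⟨n, hn⟩, he⟩ := R.prim.1 ⟨d, Subgroup.subset_closure R.mem⟩ R.mem
    ⟨g * d * g⁻¹, Subgroup.subset_closure hg⟩ hg
  have he' : n * d * n⁻¹ = g * d * g⁻¹ := congrArg Subtype.val he
  have hc : n⁻¹ * g ∈ Subgroup.centralizer ({d} : Set G) := Subgroup.mem_centralizer_singleton_iff.mpr (by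
    calc n⁻¹ * g * d = n⁻¹ * (g * d * g⁻¹) * g := by group
      _ = n⁻¹ * (n * d * n⁻¹) * g := by rw [he']
      _ = d * (n⁻¹ * g) := by group)
  have := mul_mem hn (centralizer_le B hq R hc)
  rwa [mul_inv_cancel_left] at this

include B in
theorem invols (hq : Cfsg.IsQuasisimple ↥(Subgroup.centralizer ({d} : Set G)))
    (R : Recognised (conjugatesOf d) d Ω) : Invols (conjugatesOf d) := by
  intro x hx t ht2 ht1 hst
  obtain ⟨g, hg⟩ := isConj_iff.mp (show IsConj d x from hx)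
  have hgd : g⁻¹ * x * g⁻¹⁻¹ = d := by rw [← hg]; group
  set s := g⁻¹ * t * g⁻¹⁻¹ with hs
  have hst' : Rel (conjugatesOf d) d (s * d * s⁻¹) := by
    have h1 := Rel.conj (loc B) g⁻¹ hst
    rw [hgd] at h1
    rw [hs, ← hg] at *
    simpa [mul_assoc] using h1
  have hsN : s ∈ Subgroup.closure Ω := mem_closure_of_st B hq R (R.of_rel hst')
  obtain ⟨F, _, _, ⟨S⟩⟩ := exists_sys R.trg R.prim R.type22
  have hs2 : orderOf (⟨s, hsN⟩ : ↥(Subgroup.closure Ω)) = 2 := by
    refine orderOf_eq_prime ?_ fun e => ht1 (conj_eq_one_iff.mp (congrArg Subtype.val e))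
    refine Subtype.ext ?_
    rw [SubmonoidClass.coe_pow, pow_two]
    show s * s = 1
    rw [hs, conj_mul, ht2, mul_one, mul_inv_cancel]
  obtain ⟨m, hm1, -, l, hnd, hlen, hlD, hlc, hlp⟩ := (FischerMTypes.InvolutionsM22.three_classes S).1 _ hs2
  obtain ⟨y, l', rfl⟩ := List.exists_cons_of_ne_nil (l := l) (fun e => by simp [e] at hlen; omega)
  have hys : Commute (y : G) s := by
    have h1 : Commute y (⟨s, hsN⟩ : ↥(Subgroup.closure Ω)) := by
      rw [← hlp]
      exact Commute.list_prod_right _ _ fun z hz => hlc y (by simp) z hz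
    exact congrArg Subtype.val h1.eq
  refine ⟨g * y * g⁻¹, hg ▸ Rel.conj (loc B) g (R.rel _ (hlD y (by simp))), ?_⟩
  have := (Commute.conj_iff g).mpr hys
  rwa [show g * s * g⁻¹ = t by rw [hs]; group] at this

include B in
/-- the component is the whole class, its closure the whole group -/
theorem whole (hq : Cfsg.IsQuasisimple ↥(Subgroup.centralizer ({d} : Set G)))
    (R : Recognised (conjugatesOf d) d Ω) : Ω = conjugatesOf d ∧ Subgroup.closure Ω = ⊤ := by
  have hΩ : Ω = conjugatesOf d := Set.Subset.antisymm R.sub fun y hy =>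
    R.of_rel (connected (loc B) (invols B hq R) mem_conjugatesOf_self hy ⟨_, P_nb B e0⟩)
  refine ⟨hΩ, top_unique fun g _ => mem_closure_of_st B hq R ?_⟩
  rw [hΩ]
  exact isConj_iff.mpr ⟨g, rfl⟩

include B in
theorem iso_fi22 (hq : Cfsg.IsQuasisimple ↥(Subgroup.centralizer ({d} : Set G)))
    (R : Recognised (conjugatesOf d) d Ω) : Cfsg.Spor.IsoFi22 G := by
  obtain ⟨e⟩ := R.iso
  exact ⟨(Subgroup.topEquiv.symm.trans (MulEquiv.subgroupCongr (whole B hq R).2.symm)).trans e⟩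

include B in
theorem type22 (hq : Cfsg.IsQuasisimple ↥(Subgroup.centralizer ({d} : Set G)))
    (R : Recognised (conjugatesOf d) d Ω) :
    Cfsg.IsThreeTranspositionClass (conjugatesOf d) ∧ Cfsg.IsOfTypeM22 G (conjugatesOf d) := by
  obtain ⟨hΩ, htop⟩ := whole B hq R
  refine ⟨⟨⟨fun x hx => ?_, fun x hx y hy => ?_⟩, ⟨d, mem_conjugatesOf_self, rfl⟩, hΩ ▸ htop⟩, ?_⟩
  · rw [← Subgroup.orderOf_mk x (Subgroup.subset_closure (hΩ.symm ▸ hx : x ∈ Ω))]
    exact R.trg.1.1 _ (hΩ.symm ▸ hx)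
  · have hx' : x ∈ Ω := hΩ.symm ▸ hx
    have hy' : y ∈ Ω := hΩ.symm ▸ hy
    rcases R.trg.1.2 ⟨x, Subgroup.subset_closure hx'⟩ hx' ⟨y, Subgroup.subset_closure hy'⟩ hy' with h | h
    · exact Or.inl (congrArg Subtype.val h)
    · exact Or.inr (congrArg Subtype.val h)
  · refine FischerExist27.typeM22_of_equiv ((MulEquiv.subgroupCongr htop).trans Subgroup.topEquiv) ?_ R.type22
    ext x
    rw [← hΩ]
    exact ⟨fun hx => ⟨⟨x, Subgroup.subset_closure hx⟩, hx, rfl⟩, fun ⟨z, hz, e⟩ => e ▸ hz⟩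

end Cfsg.Agent.Lib.Fi22Cent27
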