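import Mathlib
import Cfsg.Agent.Lib.Fi22Cent27.Final
import Cfsg.Agent.Lib.Fi22Core20.Main
import Cfsg.Agent.Lib.U62J.Transport

/-!
The component of `d` is recognised.
-/

set_option autoImplicit false
set_option linter.unusedSectionVars false
set_option linter.style.haveILetI false

namespace Cfsg.Agent.Lib.Fi22Cent27

open Cfsg.Agent.Lib.U62J

variable {G : Type*} [Group G] [Finite G] {d : G}
variable {π : ↥(Subgroup.centralizer ({d} : Set G)) →* Q6} (B : Base π)

include B in
theorem recognised (hq : Cfsg.IsQuasisimple ↥(Subgroup.centralizer ({d} : Set G))) :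
    Recognised (conjugatesOf d) d (Fi22Core20.comp (conjugatesOf d) d) := by
  have H := host B hq
  obtain ⟨htrg, hprim, h22, -, e, -⟩ := H.main (kernel_host B hq)
  refine ⟨H.mem_comp_self, Fi22Core20.comp_sub, fun y hy => ?_,
    fun x hx y hy hc => H.step hx hy hc, htrg, hprim, h22, ⟨e.symm⟩⟩
  rcases hy.2 with h | ⟨p, hp⟩
  · exact Rel.one H.mem hy.1 h
  · exact (Rel.one H.mem hp.1.1 hp.1.2.2).trans' (Rel.one hp.1.1 hy.1 hp.2.2.2.symm)

end Cfsg.Agent.Lib.Fi22Cent27

namespace Cfsg.Agent.Lib.Fi22Cent27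

open Cfsg.Agent.Lib.U62J

/-- the setting from a centraliser that is a double cover of `PSU(6, 2)` -/
theorem exists_base {G : Type*} [Group G] [Finite G] (d : G) (hd : orderOf d = 2)
    (hq : Cfsg.IsQuasisimple ↥(Subgroup.centralizer ({d} : Set G)))
    [hzn : ((Subgroup.zpowers d).subgroupOf (Subgroup.centralizer ({d} : Set G))).Normal]
    (K : Type) [Field K] [Fintype K] (hK : Fintype.card K = 4)
    (e : ↥(Subgroup.centralizer ({d} : Set G)) ⧸ (Subgroup.zpowers d).subgroupOf (Subgroup.centralizer ({d} : Set G)) ≃*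
      Cfsg.PSU 6 K 2)
    (hnwc : ∃ g : G, g * d * g⁻¹ ∈ Subgroup.centralizer ({d} : Set G) ∧ g * d * g⁻¹ ≠ d) :
    ∃ π : ↥(Subgroup.centralizer ({d} : Set G)) →* Q6, Base π := by
  classical
  obtain ⟨ψ⟩ := exists_psuEquiv K hK
  let π : ↥(Subgroup.centralizer ({d} : Set G)) →* Q6 :=
    (e.trans ψ).toMonoidHom.comp (QuotientGroup.mk' _)
  have hz : ∀ x : G, x ∈ Subgroup.zpowers d → x = 1 ∨ x = d := by
    intro x hx
    obtain ⟨i, rfl⟩ := hx
    show d ^ i = 1 ∨ d ^ i = d
    rw [← zpow_mod_orderOf, hd]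
    rcases Int.emod_two_eq_zero_or_one i with h | h
    · exact Or.inl (by simp [h])
    · exact Or.inr (by simp [h])
  have hdd : d * d = 1 := by rw [← sq, ← hd, pow_orderOf_eq_one]
  have hd1 : d ≠ 1 := fun h => by rw [h, orderOf_one] at hd; norm_num at hd
  have hcov : Cov π (dC d) := by
    refine ⟨(e.trans ψ).surjective.comp (QuotientGroup.mk'_surjective _), fun x => ?_, Subtype.ext hdd,
      fun h => hd1 (congrArg Subtype.val h),
      fun y => Subtype.ext (Subgroup.mem_centralizer_singleton_iff.mp y.2).symm⟩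
    show (e.trans ψ) (QuotientGroup.mk x) = 1 ↔ _
    rw [MulEquiv.map_eq_one_iff, QuotientGroup.eq_one_iff, Subgroup.mem_subgroupOf]
    constructor
    · intro hx
      rcases hz _ hx with h | h
      · exact Or.inl (Subtype.ext h)
      · exact Or.inr (Subtype.ext h)
    · rintro (rfl | rfl)
      · exact one_mem _
      · exact Subgroup.mem_zpowers d
  exact ⟨π, base_of hcov hq.1.commutator_eq_top hnwc⟩

end Cfsg.Agent.Lib.Fi22Cent27
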